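/-
Certificates that a vector with given eigenvalues under a small group of even permutations is zero,
when the stabilisers of non-zero vectors are small.
-/
import Mathlib
set_option autoImplicit false
set_option linter.unusedVariables false

namespace CfsgLib.SolvCent

/-! ### Packed permutations -/

/-- The image of a point under a packed permutation. -/
def ap (x i : ℕ) : ℕ := (x >>> (4 * i)) &&& 15

/-- A field of a packed table. -/
def fld (w T i : ℕ) : ℕ := (T >>> (w * i)) % 2 ^ w

/-- The transposition on natural numbers. -/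
def swp (i j a : ℕ) : ℕ := if a == i then j else if a == j then i else a

/-- A product of transpositions applied to a point. -/
def ev : List (ℕ × ℕ) → ℕ → ℕ
  | [], a => a
  | s :: l, a => swp s.1 s.2 (ev l a)

/-- Transpositions for a packed permutation, by selection. -/
def sorter (n x : ℕ) : List (ℕ × ℕ) :=
  (List.range n).foldl (fun l i => let j := ev l.reverse (ap x i); if j == i then l else l ++ [(i, j)]) []

/-- The check that a packed number is an even permutation. -/
def valid (n x : ℕ) : Bool :=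
  let l := sorter n x
  (l.length % 2 == 0) && (l.all fun s => s.1 < n && s.2 < n && !(s.1 == s.2)) &&
    ((List.range n).all fun i => ev l i == ap x i)

/-- The identity, packed. -/
def isId (n x : ℕ) : Bool := valid n x && (List.range n).all fun i => ap x i == i

/-- The check of `a ∘ b = c ∘ d`. -/
def eq2 (n a b c d : ℕ) : Bool := (List.range (n - 2)).all fun i => ap a (ap b i) == ap c (ap d i)

/-- The check of `a ∘ b = c ∘ d ∘ e`. -/
def eq3 (n a b c d e : ℕ) : Bool :=
  (List.range (n - 2)).all fun i => ap a (ap b i) == ap c (ap d (ap e i))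

variable {n : ℕ}

/-- A packed number stands for an even permutation. -/
def Rep (x : ℕ) (σ : alternatingGroup (Fin n)) : Prop := ∀ i : Fin n, (σ.1 i : ℕ) = ap x i

lemma exists_perm_of_swaps (l : List (ℕ × ℕ)) (h : ∀ s ∈ l, s.1 < n ∧ s.2 < n ∧ s.1 ≠ s.2) :
    ∃ σ : Equiv.Perm (Fin n), Equiv.Perm.sign σ = (-1) ^ l.length ∧ ∀ i : Fin n, (σ i : ℕ) = ev l i := by
  induction l with
  | nil => exact ⟨1, by simp, fun i => rfl⟩
  | cons s l ih =>
    obtain ⟨σ, hs, hσ⟩ := ih fun t ht => h t (List.mem_cons_of_mem _ ht)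
    obtain ⟨h1, h2, h3⟩ := h s (List.mem_cons_self ..)
    refine ⟨Equiv.swap ⟨s.1, h1⟩ ⟨s.2, h2⟩ * σ, ?_, fun i => ?_⟩
    · rw [Equiv.Perm.sign_mul, Equiv.Perm.sign_swap (by simpa [Fin.ext_iff] using h3), hs, List.length_cons,
        pow_succ, mul_comm]
    · show ((Equiv.swap (⟨s.1, h1⟩ : Fin n) ⟨s.2, h2⟩ (σ i) : Fin n) : ℕ) = swp s.1 s.2 (ev l i)
      rw [← hσ i, swp]
      simp only [Equiv.swap_apply_def, Fin.ext_iff, beq_iff_eq]
      split_ifs <;> simp_all

lemma exists_rep {x : ℕ} (h : valid n x = true) : ∃ σ, Rep (n := n) x σ := by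
  simp only [valid, Bool.and_eq_true, List.all_eq_true, decide_eq_true_eq, beq_iff_eq, List.mem_range,
    Bool.not_eq_true', beq_eq_false_iff_ne] at h
  obtain ⟨⟨hlen, hall⟩, hev⟩ := h
  obtain ⟨σ, hs, hσ⟩ := exists_perm_of_swaps (n := n) _ fun s hs => ⟨(hall s hs).1.1, (hall s hs).1.2, (hall s hs).2⟩
  refine ⟨⟨σ, ?_⟩, fun i => by rw [hσ i]; exact hev i i.2⟩
  rw [Equiv.Perm.mem_alternatingGroup, hs]
  exact Even.neg_one_pow (Nat.even_iff.2 hlen)

/-- Even permutations agreeing outside two points are equal. -/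
lemma ext_two {σ τ : alternatingGroup (Fin n)} (h : ∀ i : Fin n, (i : ℕ) < n - 2 → σ.1 i = τ.1 i) : σ = τ := by
  by_contra hne
  set π := σ.1⁻¹ * τ.1 with hπ
  have hπ1 : π ≠ 1 := fun e => hne (Subtype.ext (inv_mul_eq_one.1 e))
  have hsupp : π.support.card ≤ 2 := by
    have h1 : π.support.map Fin.valEmbedding ⊆ Finset.Ico (n - 2) n := by
      intro j hj
      obtain ⟨i, hi, rfl⟩ := Finset.mem_map.1 hj
      refine Finset.mem_Ico.2 ⟨?_, i.2⟩
      by_contra hlt
      push Not at hlt
      refine Equiv.Perm.mem_support.1 hi ?_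
      rw [hπ, Equiv.Perm.mul_apply, ← h i hlt]; exact Equiv.symm_apply_apply _ _
    have := Finset.card_le_card h1
    rw [Finset.card_map, Nat.card_Ico] at this
    omega
  have h2 : π.support.card = 2 := le_antisymm hsupp (Equiv.Perm.two_le_card_support_of_ne_one hπ1)
  have hsw := Equiv.Perm.card_support_eq_two.1 h2
  have hsign : Equiv.Perm.sign π = 1 := by
    rw [hπ, map_mul, map_inv, Equiv.Perm.mem_alternatingGroup.1 σ.2, Equiv.Perm.mem_alternatingGroup.1 τ.2,
      inv_one, one_mul]
  rw [hsw.sign_eq] at hsign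
  exact absurd hsign (by decide)

lemma Rep.unique {x : ℕ} {σ τ : alternatingGroup (Fin n)} (h : Rep x σ) (h' : Rep x τ) : σ = τ :=
  ext_two fun i _ => Fin.ext ((h i).trans (h' i).symm)

lemma Rep.mul_eq {a b c d : ℕ} {σ τ σ' τ' : alternatingGroup (Fin n)} (h1 : Rep a σ) (h2 : Rep b τ)
    (h3 : Rep c σ') (h4 : Rep d τ') (h : eq2 n a b c d = true) : σ * τ = σ' * τ' := by
  simp only [eq2, List.all_eq_true, beq_iff_eq, List.mem_range] at h
  refine ext_two fun i hi => Fin.ext ?_
  show (σ.1 (τ.1 i) : ℕ) = σ'.1 (τ'.1 i)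
  rw [h1, h2, h3, h4]
  exact h i hi

lemma Rep.mul_eq3 {a b c d e : ℕ} {σ τ σ' τ' υ : alternatingGroup (Fin n)} (h1 : Rep a σ) (h2 : Rep b τ)
    (h3 : Rep c σ') (h4 : Rep d τ') (h5 : Rep e υ) (h : eq3 n a b c d e = true) : σ * τ = σ' * τ' * υ := by
  simp only [eq3, List.all_eq_true, beq_iff_eq, List.mem_range] at h
  refine ext_two fun i hi => Fin.ext ?_
  show (σ.1 (τ.1 i) : ℕ) = σ'.1 (τ'.1 (υ.1 i))
  rw [h1, h2, h3, h4, h5]
  exact h i hi

/-! ### Certificates -/

/-- An orbit of one of the subgroups, as signed cosets. -/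
structure Orb where
  L : ℕ
  m : ℕ
  ys : ℕ
  sg : ℕ
  wit : List ℕ

/-- A translated orbit with a coefficient. -/
structure Term where
  o : ℕ
  g : ℕ
  c : ℕ
  wit : ℕ

/-- A certificate. -/
structure Cert where
  n : ℕ
  P : ℕ
  gens : List (ℕ × Bool)
  nK : ℕ
  nl : ℕ
  K : ℕ
  Kw : ℕ
  Kc : ℕ
  close : List ℕ
  Ls : List (List ℕ)
  nR : ℕ
  R : ℕ
  zero : List (ℕ × ℕ × ℕ)
  orbs : List Orb
  terms : List Term

namespace Cert

variable (C : Cert)

/-- An element of the group. -/
def k (j : ℕ) : ℕ := fld 40 C.K j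

/-- The sign of an element of the group. -/
def kc (j : ℕ) : Bool := C.Kc.testBit j

/-- A representative. -/
def r (j : ℕ) : ℕ := fld 40 C.R j

/-- The validity of the tables. -/
def chkTab : Bool :=
  (List.range C.nK).all (fun j => valid C.n (C.k j)) && (List.range C.nR).all (fun j => valid C.n (C.r j)) &&
    C.gens.all (fun s => valid C.n s.1) && C.Ls.all (fun L => L.all fun s => valid C.n s) &&
    isId C.n (C.k 0) && !C.kc 0 && isId C.n (C.r 0) && decide (0 < C.nK) && decide (C.nl ≤ C.nK) && decide (0 < C.nR)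

/-- Every element of the group is a product of generators. -/
def chkWord (j : ℕ) : Bool :=
  j == 0 || (let w := fld 16 C.Kw j
    match C.gens[w / 4096]? with
    | none => false
    | some s => decide (w % 4096 < j) && eq2 C.n (C.k j) (C.k 0) s.1 (C.k (w % 4096)) &&
        (C.kc j == xor s.2 (C.kc (w % 4096))))

/-- The left part is closed under right multiplication by the generators. -/
def chkClose (gi : ℕ) : Bool :=
  C.nl == 1 || (C.nl == C.nK &&
    match C.gens[gi]?, C.close[gi]? with
    | some s, some T => (List.range C.nl).all fun j =>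
        let a := fld 24 T j
        decide (a % 4096 < C.nl) && decide (fld 24 T (a % 4096) / 4096 = j) &&
          eq2 C.n (C.k j) s.1 (C.k (a % 4096)) (C.k 0) && (C.kc (a % 4096) == xor s.2 (C.kc j))
    | _, _ => false)

/-- Invariance of an orbit. -/
def chkOrb (O : Orb) : Bool :=
  (List.range O.m).all (fun j => valid C.n (fld 40 O.ys j)) &&
  match C.Ls[O.L]? with
  | none => false
  | some L => (List.range L.length).all fun si =>
      match L[si]?, O.wit[si]? with
      | some s, some T => (List.range O.m).all fun j =>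
          let a := fld 32 T j
          let i := a % 256
          let q := a / 65536
          decide (i < O.m) && decide (fld 32 T i / 256 % 256 = j) && decide (q < C.nK) &&
            eq2 C.n s (fld 40 O.ys j) (fld 40 O.ys i) (C.k q) &&
            (O.sg.testBit j == xor (O.sg.testBit i) (C.kc q))
      | _, _ => false

/-- The orbit of a term. -/
def orbOf (T : Term) : Orb := C.orbs[T.o]?.getD ⟨0, 0, 0, 0, []⟩

/-- The witness of a summand of a term. -/
def chkSummand (T : Term) (O : Orb) (j : ℕ) : Bool :=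
  let a := fld 36 T.wit j
  let r := a % 4096
  let k1 := a / 4096 % 4096
  let k2 := a / 16777216
  decide (r < C.nR) && decide (k1 < C.nl) && decide (k2 < C.nK) &&
    eq3 C.n T.g (fld 40 O.ys j) (C.k k1) (C.r r) (C.k k2)

/-- The check of a term. -/
def chkTerm (T : Term) : Bool :=
  valid C.n T.g && decide (T.o < C.orbs.length) && decide (T.c ≤ C.P) &&
    (List.range (C.orbOf T).m).all fun j => C.chkSummand T (C.orbOf T) j

/-- The combination contributed by a term. -/
def combT (T : Term) : List (ℕ × ℕ) :=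
  (List.range (C.orbOf T).m).map fun j =>
    let a := fld 36 T.wit j
    (a % 4096, if xor ((C.orbOf T).sg.testBit j) (xor (C.kc (a / 4096 % 4096)) (C.kc (a / 16777216)))
      then C.P - T.c else T.c)

/-- The combination. -/
def comb : List (ℕ × ℕ) := C.terms.flatMap C.combT

/-- The packed coefficients. -/
def acc (l : List (ℕ × ℕ)) : ℕ := l.foldr (fun a s => (a.2 <<< (20 * a.1)) + s) 0

/-- The check of a vanishing representative. -/
def chkZero (z : ℕ × ℕ × ℕ) : Bool :=
  decide (z.1 < C.nR) && decide (z.2.1 < C.nl) && decide (z.2.2 < C.nK) && C.P % 2 == 1 &&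
    eq3 C.n (C.r z.1) (C.k 0) (C.k z.2.1) (C.r z.1) (C.k z.2.2) && xor (C.kc z.2.1) (C.kc z.2.2)

/-- The check of the coefficients. -/
def chkCoef (Z A j : ℕ) : Bool :=
  Z.testBit j || fld 20 A j % C.P == (if j == 0 then 1 % C.P else 0)

/-- The mask of the vanishing representatives. -/
def zmask : ℕ := C.zero.foldr (fun z s => s ||| 1 <<< z.1) 0

/-- The whole check apart from the orbits and the terms. -/
def chkMain : Bool :=
  C.chkTab && (List.range C.nK).all C.chkWord && (List.range C.gens.length).all C.chkClose &&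
    C.zero.all C.chkZero && !C.zmask.testBit 0 && decide ((C.comb.map Prod.snd).sum < 2 ^ 20) &&
    (let Z := C.zmask; let A := acc C.comb; (List.range C.nR).all fun j => C.chkCoef Z A j)

/-- The check. -/
def check : Bool := C.chkMain && C.orbs.all C.chkOrb && C.terms.all C.chkTerm

end Cert

end CfsgLib.SolvCent
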