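/-
Soundness of the certificates.
-/
import Cfsg.Agent.Lib.SolvCent.Check
set_option autoImplicit false
set_option linter.unusedVariables false
set_option linter.unusedSectionVars false

namespace CfsgLib.SolvCent

variable {n : ℕ} {V : Type*} [AddCommGroup V] [DistribMulAction (alternatingGroup (Fin n)) V]

/-- A vector with a sign. -/
def sgn (b : Bool) (u : V) : V := if b then -u else u

lemma sgn_sgn (a b : Bool) (u : V) : sgn a (sgn b u) = sgn (xor a b) u := by
  cases a <;> cases b <;> simp [sgn]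

lemma sgn_add (a : Bool) (u w : V) : sgn a (u + w) = sgn a u + sgn a w := by
  cases a <;> simp [sgn]; abel

lemma sgn_sum {α : Type*} (a : Bool) (s : Finset α) (f : α → V) : sgn a (∑ x ∈ s, f x) = ∑ x ∈ s, sgn a (f x) := by
  cases a <;> simp [sgn, Finset.sum_neg_distrib]

open Classical in
/-- The action of a packed permutation. -/
noncomputable def act (n : ℕ) {V : Type*} [AddCommGroup V] [DistribMulAction (alternatingGroup (Fin n)) V]
    (x : ℕ) (u : V) : V :=
  if h : ∃ σ : alternatingGroup (Fin n), Rep x σ then h.choose • u else 0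

lemma act_eq {x : ℕ} {σ : alternatingGroup (Fin n)} (h : Rep x σ) (u : V) : act n x u = σ • u := by
  classical
  rw [act, dif_pos ⟨σ, h⟩, Exists.choose_spec ⟨σ, h⟩ |>.unique h]

lemma act_sgn {x : ℕ} (h : valid n x = true) (b : Bool) (u : V) : act n x (sgn b u) = sgn b (act n x u) := by
  obtain ⟨σ, hσ⟩ := exists_rep h
  rw [act_eq hσ, act_eq hσ]
  cases b <;> simp [sgn, smul_neg]

lemma act_sum {α : Type*} {x : ℕ} (h : valid n x = true) (s : Finset α) (f : α → V) :
    act n x (∑ a ∈ s, f a) = ∑ a ∈ s, act n x (f a) := by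
  obtain ⟨σ, hσ⟩ := exists_rep h
  simp only [act_eq hσ, Finset.smul_sum]

lemma act_id {x : ℕ} (h : isId n x = true) (u : V) : act n x u = u := by
  simp only [isId, Bool.and_eq_true, List.all_eq_true, beq_iff_eq, List.mem_range] at h
  obtain ⟨σ, hσ⟩ := exists_rep h.1
  rw [act_eq hσ, show σ = 1 from ext_two fun i _ => Fin.ext ((hσ i).trans (h.2 i i.2)), one_smul]

lemma act_eq2 {a b c d : ℕ} (ha : valid n a = true) (hb : valid n b = true) (hc : valid n c = true)
    (hd : valid n d = true) (h : eq2 n a b c d = true) (u : V) : act n a (act n b u) = act n c (act n d u) := by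
  obtain ⟨σ, h1⟩ := exists_rep ha; obtain ⟨τ, h2⟩ := exists_rep hb
  obtain ⟨σ', h3⟩ := exists_rep hc; obtain ⟨τ', h4⟩ := exists_rep hd
  rw [act_eq h1, act_eq h2, act_eq h3, act_eq h4, ← mul_smul, ← mul_smul, Rep.mul_eq h1 h2 h3 h4 h]

lemma act_eq3 {a b c d e : ℕ} (ha : valid n a = true) (hb : valid n b = true) (hc : valid n c = true)
    (hd : valid n d = true) (he : valid n e = true) (h : eq3 n a b c d e = true) (u : V) :
    act n a (act n b u) = act n c (act n d (act n e u)) := by
  obtain ⟨σ, h1⟩ := exists_rep ha; obtain ⟨τ, h2⟩ := exists_rep hb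
  obtain ⟨σ', h3⟩ := exists_rep hc; obtain ⟨τ', h4⟩ := exists_rep hd; obtain ⟨υ, h5⟩ := exists_rep he
  rw [act_eq h1, act_eq h2, act_eq h3, act_eq h4, act_eq h5, ← mul_smul, ← mul_smul, ← mul_smul,
    Rep.mul_eq3 h1 h2 h3 h4 h5 h, mul_assoc]

/-! ### Digits -/

/-- The sum of the coefficients at a place. -/
def coefAt (l : List (ℕ × ℕ)) (r : ℕ) : ℕ := (l.map fun a => if a.1 = r then a.2 else 0).sum

lemma coefAt_le (l : List (ℕ × ℕ)) (r : ℕ) : coefAt l r ≤ (l.map Prod.snd).sum := by
  induction l with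
  | nil => simp [coefAt]
  | cons a l ih =>
    simp only [coefAt, List.map_cons, List.sum_cons] at ih ⊢
    split_ifs <;> omega

lemma acc_eq_sum {N : ℕ} : ∀ l : List (ℕ × ℕ), (∀ a ∈ l, a.1 < N) →
    Cert.acc l = ∑ r ∈ Finset.range N, coefAt l r * (2 ^ 20) ^ r
  | [], _ => by simp [Cert.acc, coefAt]
  | a :: l, h => by
    have ih := acc_eq_sum l fun b hb => h b (List.mem_cons_of_mem _ hb)
    simp only [Cert.acc, coefAt, List.foldr_cons, List.map_cons, List.sum_cons, add_mul, Finset.sum_add_distrib,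
      ite_mul, zero_mul] at ih ⊢
    rw [ih, Finset.sum_ite_eq, if_pos (Finset.mem_range.2 (h a (List.mem_cons_self ..))), Nat.shiftLeft_eq, pow_mul]

lemma digit_sum (B : ℕ) : ∀ (N : ℕ) (f : ℕ → ℕ), (∀ r, f r < B) → ∀ r < N,
    (∑ i ∈ Finset.range N, f i * B ^ i) / B ^ r % B = f r := by
  intro N
  induction N with
  | zero => intro f _ r hr; omega
  | succ N ih =>
    intro f hf r hr
    have hB : 0 < B := Nat.lt_of_le_of_lt (Nat.zero_le _) (hf 0)
    rw [Finset.sum_range_succ', pow_zero, mul_one,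
      show ∑ i ∈ Finset.range N, f (i + 1) * B ^ (i + 1) = B * ∑ i ∈ Finset.range N, f (i + 1) * B ^ i by
        rw [Finset.mul_sum]; exact Finset.sum_congr rfl fun i _ => by ring]
    rcases r with _ | r
    · rw [pow_zero, Nat.div_one, Nat.mul_add_mod, Nat.mod_eq_of_lt (hf 0)]
    · rw [pow_succ', ← Nat.div_div_eq_div_mul, Nat.mul_add_div hB, Nat.div_eq_of_lt (hf 0), add_zero]
      exact ih _ (fun i => hf _) r (by omega)

lemma fld_acc {N : ℕ} {l : List (ℕ × ℕ)} (h : ∀ a ∈ l, a.1 < N) (hs : (l.map Prod.snd).sum < 2 ^ 20) {r : ℕ}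
    (hr : r < N) : fld 20 (Cert.acc l) r = coefAt l r := by
  rw [fld, Nat.shiftRight_eq_div_pow, pow_mul, acc_eq_sum l h]
  exact digit_sum _ N _ (fun r => lt_of_le_of_lt (coefAt_le l r) hs) r hr

lemma sum_comb {N : ℕ} (f : ℕ → V) : ∀ l : List (ℕ × ℕ), (∀ a ∈ l, a.1 < N) →
    (l.map fun a => a.2 • f a.1).sum = ∑ r ∈ Finset.range N, coefAt l r • f r
  | [], _ => by simp [coefAt]
  | a :: l, h => by
    have ih := sum_comb f l fun b hb => h b (List.mem_cons_of_mem _ hb)
    simp only [coefAt, List.map_cons, List.sum_cons, add_smul, Finset.sum_add_distrib, ite_smul, zero_smul] at ih ⊢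
    rw [ih, Finset.sum_ite_eq, if_pos (Finset.mem_range.2 (h a (List.mem_cons_self ..)))]

lemma zmask_test : ∀ (l : List (ℕ × ℕ × ℕ)) (r : ℕ),
    (l.foldr (fun z s => s ||| 1 <<< z.1) 0).testBit r = true → ∃ z ∈ l, z.1 = r
  | [], r => by simp
  | z :: l, r => by
    intro h
    simp only [List.foldr_cons, Nat.testBit_or, Bool.or_eq_true] at h
    rcases h with h | h
    · obtain ⟨w, hw, e⟩ := zmask_test l r h
      exact ⟨w, List.mem_cons_of_mem _ hw, e⟩
    · rw [Nat.shiftLeft_eq, one_mul, Nat.testBit_two_pow] at h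
      exact ⟨z, List.mem_cons_self .., of_decide_eq_true h⟩

/-! ### Soundness -/

namespace Cert

variable (C : Cert)

/-- The projection to the eigenvectors. -/
noncomputable def proj (n : ℕ) {V : Type*} [AddCommGroup V] [DistribMulAction (alternatingGroup (Fin n)) V]
    (u : V) : V :=
  ∑ j ∈ Finset.range C.nl, sgn (C.kc j) (act n (C.k j) u)

/-- A checked certificate forces the vector to vanish. -/
theorem sound (hn : C.n = n) (hcheck : C.check = true) (hP : ∀ u : V, C.P • u = 0) (hcop : C.nl.Coprime C.P)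
    {v : V} (hgens : ∀ s ∈ C.gens, act n s.1 v = sgn s.2 v)
    (hLs : ∀ L ∈ C.Ls, ∀ u : V, (∀ s ∈ L, act n s u = u) → u = 0) : v = 0 := by
  classical
  subst hn
  simp only [check, chkMain, chkTab, Bool.and_eq_true, List.all_eq_true, List.mem_range, decide_eq_true_eq,
    Bool.not_eq_true'] at hcheck
  obtain ⟨⟨⟨⟨⟨⟨⟨⟨htab, hword⟩, hclose⟩, hzero⟩, hz0⟩, hsum⟩, hcoef⟩, horb⟩, hterm⟩ := hcheck
  obtain ⟨⟨⟨⟨⟨⟨⟨⟨⟨hK, hR⟩, hgv⟩, hLv⟩, hk0⟩, hkc0⟩, hr0⟩, hnK⟩, hnl⟩, hnR⟩ := htab
  have hfix : ∀ j < C.nK, act C.n (C.k j) v = sgn (C.kc j) v := by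
    intro j
    induction j using Nat.strongRecOn with
    | ind j ih =>
      intro hj
      have h := hword j hj
      rcases eq_or_ne j 0 with rfl | hj0
      · rw [act_id hk0, hkc0]; rfl
      simp only [chkWord, beq_iff_eq, hj0, Bool.or_eq_true, false_or] at h
      split at h
      · exact absurd h (by simp)
      · rename_i s hs
        simp only [Bool.and_eq_true, decide_eq_true_eq, beq_iff_eq] at h
        obtain ⟨⟨hlt, he⟩, hc⟩ := h
        set b := fld 16 C.Kw j % 4096
        have hs' : s ∈ C.gens := List.mem_of_getElem? hs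
        have hb : b < C.nK := lt_trans hlt hj
        have e := act_eq2 (V := V) (hK j hj) (hK 0 hnK) (hgv s hs') (hK b hb) he v
        rw [act_id hk0] at e
        rw [e, ih b hlt hb, act_sgn (hgv s hs'), hgens s hs', sgn_sgn, hc, Bool.xor_comm]
  set φ : V → V := C.proj C.n with hφ
  have hφsum : ∀ {α : Type} (s : Finset α) (f : α → V), φ (∑ a ∈ s, f a) = ∑ a ∈ s, φ (f a) := by
    intro α s f
    simp only [hφ, proj]
    rw [Finset.sum_comm]
    exact Finset.sum_congr rfl fun j hj => by
      rw [act_sum (hK j (lt_of_lt_of_le (Finset.mem_range.1 hj) hnl)), sgn_sum]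
  have hφsgn : ∀ (b : Bool) (u : V), φ (sgn b u) = sgn b (φ u) := fun b u => by
    simp only [hφ, proj, sgn_sum]
    exact Finset.sum_congr rfl fun j hj => by
      rw [act_sgn (hK j (lt_of_lt_of_le (Finset.mem_range.1 hj) hnl)), sgn_sgn, sgn_sgn, Bool.xor_comm]
  -- right multiplication by the generators
  have hφgen : C.nl ≠ 1 → ∀ s ∈ C.gens, ∀ u, φ (act C.n s.1 u) = sgn s.2 (φ u) := by
    intro hne s hs u
    obtain ⟨gi, hgi⟩ := List.getElem?_of_mem hs
    have hlt : gi < C.gens.length := (List.getElem?_eq_some_iff.1 hgi).1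
    have h := hclose gi hlt
    simp only [chkClose, beq_iff_eq, hne, Bool.or_eq_true, false_or, Bool.and_eq_true, hgi] at h
    obtain ⟨hlK, h⟩ := h
    split at h
    swap
    · exact absurd h (by simp)
    rename_i s' T hs' hT
    obtain rfl : s = s' := Option.some_inj.1 hs'
    simp only [List.all_eq_true, List.mem_range, Bool.and_eq_true, decide_eq_true_eq, beq_iff_eq] at h
    simp only [hφ, proj, sgn_sum]
    refine Finset.sum_bij' (fun j _ => fld 24 T j % 4096) (fun j _ => fld 24 T j / 4096) ?_ ?_ ?_ ?_ ?_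
    · intro j hj; exact Finset.mem_range.2 (h j (Finset.mem_range.1 hj)).1.1.1
    · intro j hj
      have h4 : ∀ i < C.nl, fld 24 T (fld 24 T i % 4096) / 4096 = i := fun i hi => (h i hi).1.1.2
      have hinj : Set.InjOn (fun i => fld 24 T i % 4096) (Finset.range C.nl) := fun a ha b hb e => by
        rw [← h4 a (Finset.mem_range.1 ha), ← h4 b (Finset.mem_range.1 hb)]; simp only at e; rw [e]
      obtain ⟨i, hi, rfl⟩ := Finset.surjOn_of_injOn_of_card_le (fun i => fld 24 T i % 4096)
        (fun i hi => Finset.mem_range.2 (h i (Finset.mem_range.1 hi)).1.1.1) hinj le_rfl hj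
      rw [h4 i (Finset.mem_range.1 hi)]; exact hi
    · intro j hj; exact (h j (Finset.mem_range.1 hj)).1.1.2
    · intro j hj
      have h4 : ∀ i < C.nl, fld 24 T (fld 24 T i % 4096) / 4096 = i := fun i hi => (h i hi).1.1.2
      have hinj : Set.InjOn (fun i => fld 24 T i % 4096) (Finset.range C.nl) := fun a ha b hb e => by
        rw [← h4 a (Finset.mem_range.1 ha), ← h4 b (Finset.mem_range.1 hb)]; simp only at e; rw [e]
      obtain ⟨i, hi, rfl⟩ := Finset.surjOn_of_injOn_of_card_le (fun i => fld 24 T i % 4096)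
        (fun i hi => Finset.mem_range.2 (h i (Finset.mem_range.1 hi)).1.1.1) hinj le_rfl hj
      rw [h4 i (Finset.mem_range.1 hi)]
    · intro j hj
      obtain ⟨⟨⟨h1, h2⟩, h3⟩, h4⟩ := h j (Finset.mem_range.1 hj)
      have hjK : j < C.nK := lt_of_lt_of_le (Finset.mem_range.1 hj) hnl
      have e := act_eq2 (V := V) (hK j hjK) (hgv s hs) (hK _ (lt_of_lt_of_le h1 hnl)) (hK 0 hnK) h3 u
      rw [act_id hk0] at e
      rw [e, sgn_sgn, h4, ← Bool.xor_assoc, Bool.xor_self, Bool.false_xor]
  have hφk : ∀ j < C.nl, ∀ u, φ (act C.n (C.k j) u) = sgn (C.kc j) (φ u) := by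
    intro j
    induction j using Nat.strongRecOn with
    | ind j ih =>
      intro hj u
      rcases eq_or_ne j 0 with rfl | hj0
      · rw [act_id hk0, hkc0]; rfl
      have hjK : j < C.nK := lt_of_lt_of_le hj hnl
      have h := hword j hjK
      simp only [chkWord, beq_iff_eq, hj0, Bool.or_eq_true, false_or] at h
      split at h
      · exact absurd h (by simp)
      · rename_i s hs
        simp only [Bool.and_eq_true, decide_eq_true_eq, beq_iff_eq] at h
        obtain ⟨⟨hlt, he⟩, hc⟩ := h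
        set b := fld 16 C.Kw j % 4096
        have hs' : s ∈ C.gens := List.mem_of_getElem? hs
        have hb : b < C.nK := lt_trans hlt hjK
        have e := act_eq2 (V := V) (hK j hjK) (hK 0 hnK) (hgv s hs') (hK b hb) he u
        rw [act_id hk0] at e
        rw [e, hφgen (by omega) s hs', ih b hlt (by omega), sgn_sgn, hc]
  -- the target
  have hφv : φ v = C.nl • v := by
    simp only [hφ, proj]
    rw [Finset.sum_congr rfl fun j hj => show sgn (C.kc j) (act C.n (C.k j) v) = v by
      rw [hfix j (lt_of_lt_of_le (Finset.mem_range.1 hj) hnl), sgn_sgn, Bool.xor_self]; rfl]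
    rw [Finset.sum_const, Finset.card_range]
  -- the orbits vanish
  have horb0 : ∀ O ∈ C.orbs, ∑ j ∈ Finset.range O.m, sgn (O.sg.testBit j) (act C.n (fld 40 O.ys j) v) = 0 := by
    intro O hO
    have h := horb O hO
    simp only [chkOrb, Bool.and_eq_true, List.all_eq_true, List.mem_range] at h
    obtain ⟨hys, h⟩ := h
    split at h
    · exact absurd h (by simp)
    rename_i L hL
    refine hLs L (List.mem_of_getElem? hL) _ fun s hs => ?_
    obtain ⟨si, hsi⟩ := List.getElem?_of_mem hs
    simp only [List.all_eq_true, List.mem_range] at h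
    have h' := h si (List.getElem?_eq_some_iff.1 hsi).1
    rw [hsi] at h'
    split at h'
    swap
    · exact absurd h' (by simp)
    rename_i s' T hs' hT
    obtain rfl : s = s' := Option.some_inj.1 hs'
    simp only [List.all_eq_true, List.mem_range, Bool.and_eq_true, decide_eq_true_eq, beq_iff_eq] at h'
    have hsv : valid C.n s = true := hLv L (List.mem_of_getElem? hL) s hs
    rw [act_sum hsv]
    have h4 : ∀ i < O.m, fld 32 T (fld 32 T i % 256) / 256 % 256 = i := fun i hi => (h' i hi).1.1.1.2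
    have hinj : Set.InjOn (fun i => fld 32 T i % 256) (Finset.range O.m) := fun a ha b hb e => by
      rw [← h4 a (Finset.mem_range.1 ha), ← h4 b (Finset.mem_range.1 hb)]; simp only at e; rw [e]
    refine Finset.sum_nbij (fun i => fld 32 T i % 256)
      (fun i hi => Finset.mem_range.2 (h' i (Finset.mem_range.1 hi)).1.1.1.1) hinj
      (Finset.surjOn_of_injOn_of_card_le _ (fun i hi => Finset.mem_range.2 (h' i (Finset.mem_range.1 hi)).1.1.1.1)
        hinj le_rfl) fun j hj => ?_
    obtain ⟨⟨⟨⟨h1, h2⟩, h3⟩, he⟩, hb⟩ := h' j (Finset.mem_range.1 hj)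
    rw [act_sgn hsv, act_eq2 hsv (hys j (Finset.mem_range.1 hj)) (hys _ h1) (hK _ h3) he, hfix _ h3,
      act_sgn (hys _ h1), sgn_sgn, hb]
    congr 1
    cases O.sg.testBit (fld 32 T j % 256) <;> cases C.kc (fld 32 T j / 65536) <;> rfl
  -- the terms
  set f : ℕ → V := fun r => φ (act C.n (C.r r) v) with hf
  have hterm0 : ∀ T ∈ C.terms, ((C.combT T).map fun a => a.2 • f a.1).sum = 0 := by
    intro T hT
    have h := hterm T hT
    simp only [chkTerm, Bool.and_eq_true, List.all_eq_true, List.mem_range, decide_eq_true_eq] at h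
    obtain ⟨⟨⟨hg, ho⟩, hc⟩, hw⟩ := h
    set O := C.orbOf T with hOdef
    have hO : O ∈ C.orbs := by
      rw [hOdef, orbOf, List.getElem?_eq_getElem ho, Option.getD_some]; exact List.getElem_mem ho
    have hys : ∀ j < O.m, valid C.n (fld 40 O.ys j) = true := by
      have h := horb O hO
      simp only [chkOrb, Bool.and_eq_true, List.all_eq_true, List.mem_range] at h
      exact h.1
    have h0 : φ (act C.n T.g (∑ j ∈ Finset.range O.m, sgn (O.sg.testBit j) (act C.n (fld 40 O.ys j) v))) = 0 := by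
      obtain ⟨σ, hσ⟩ := exists_rep hg
      rw [horb0 O hO, act_eq hσ, smul_zero]
      simp only [hφ, proj]
      refine Finset.sum_eq_zero fun j hj => ?_
      obtain ⟨τ, hτ⟩ := exists_rep (hK j (lt_of_lt_of_le (Finset.mem_range.1 hj) hnl))
      rw [act_eq hτ, smul_zero]
      cases C.kc j <;> simp [sgn]
    rw [act_sum hg, hφsum] at h0
    have hcP : ∀ (b : Bool) (u : V), (if b then C.P - T.c else T.c) • u = T.c • sgn b u := fun b u => by
      cases b
      · rfl
      · refine eq_neg_of_add_eq_zero_left ?_ |>.trans (smul_neg _ _).symm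
        rw [if_pos rfl, ← add_smul, Nat.sub_add_cancel hc, hP]
    have key : ((C.combT T).map fun a => a.2 • f a.1).sum =
        T.c • ∑ j ∈ Finset.range O.m, φ (act C.n T.g (sgn (O.sg.testBit j) (act C.n (fld 40 O.ys j) v))) := by
      rw [combT, List.map_map, Finset.smul_sum, ← hOdef]
      refine (List.sum_toFinset _ List.nodup_range).symm.trans
        (Finset.sum_congr (by ext; simp) fun j hj => ?_)
      have hj' := Finset.mem_range.1 hj
      have h := hw j hj'
      simp only [chkSummand, Bool.and_eq_true, decide_eq_true_eq] at h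
      obtain ⟨⟨⟨hr, hk1⟩, hk2⟩, he⟩ := h
      set a := fld 36 T.wit j
      have hk1K : a / 4096 % 4096 < C.nK := lt_of_lt_of_le hk1 hnl
      show (if xor (O.sg.testBit j) (xor (C.kc (a / 4096 % 4096)) (C.kc (a / 16777216))) then C.P - T.c else T.c) •
        f (a % 4096) = _
      rw [hcP, act_sgn hg, hφsgn, act_eq3 hg (hys j hj') (hK _ hk1K) (hR _ hr) (hK _ hk2) he, hfix _ hk2,
        act_sgn (hR _ hr), act_sgn (hK _ hk1K), hφsgn, hφk _ hk1, sgn_sgn, sgn_sgn, hf]
      congr 1
      cases O.sg.testBit j <;> cases C.kc (a / 4096 % 4096) <;> cases C.kc (a / 16777216) <;> rfl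
    rw [key, h0, smul_zero]
  have hbound : ∀ a ∈ C.comb, a.1 < C.nR := by
    intro a ha
    simp only [comb, List.mem_flatMap, combT, List.mem_map, List.mem_range] at ha
    obtain ⟨T, hT, j, hj, rfl⟩ := ha
    have h := hterm T hT
    simp only [chkTerm, Bool.and_eq_true, List.all_eq_true, List.mem_range, decide_eq_true_eq] at h
    have h' := h.2 j hj
    simp only [chkSummand, Bool.and_eq_true, decide_eq_true_eq] at h'
    exact h'.1.1.1
  have hcomb : (C.comb.map fun a => a.2 • f a.1).sum = 0 := by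
    rw [comb]
    have : ∀ ts : List Term, (∀ T ∈ ts, T ∈ C.terms) →
        ((ts.flatMap C.combT).map fun a => a.2 • f a.1).sum = 0 := by
      intro ts
      induction ts with
      | nil => simp
      | cons T ts ih =>
        intro h
        rw [List.flatMap_cons, List.map_append, List.sum_append, hterm0 T (h T (List.mem_cons_self ..)),
          ih fun U hU => h U (List.mem_cons_of_mem _ hU), add_zero]
    exact this _ fun T h => h
  rw [sum_comb f _ hbound, Finset.sum_eq_single 0] at hcomb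
  · have h0 := hcoef 0 hnR
    simp only [chkCoef, hz0, Bool.false_or, beq_iff_eq, if_pos rfl, fld_acc hbound hsum hnR] at h0
    rw [← Nat.div_add_mod (coefAt C.comb 0) C.P, add_smul, mul_comm, mul_smul, hP, smul_zero, zero_add, h0,
      hf] at hcomb
    simp only at hcomb
    rw [act_id hr0, hφv] at hcomb
    have h1 : (1 % C.P) • (C.nl • v) = C.nl • v := by
      conv_rhs => rw [← one_smul ℕ (C.nl • v), ← Nat.div_add_mod 1 C.P, add_smul, mul_comm, mul_smul, hP,
        smul_zero, zero_add]
    rw [if_pos trivial, h1] at hcomb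
    have hd1 : addOrderOf v ∣ C.nl := addOrderOf_dvd_iff_nsmul_eq_zero.2 hcomb
    have hd2 : addOrderOf v ∣ C.P := addOrderOf_dvd_iff_nsmul_eq_zero.2 (hP v)
    exact AddMonoid.addOrderOf_eq_one_iff.1 (Nat.eq_one_of_dvd_one (hcop ▸ Nat.dvd_gcd hd1 hd2))
  · intro r hr hr0'
    have h0 := hcoef r (Finset.mem_range.1 hr)
    simp only [chkCoef, Bool.or_eq_true, beq_iff_eq, if_neg hr0', fld_acc hbound hsum (Finset.mem_range.1 hr)] at h0
    rcases h0 with h0 | h0
    · obtain ⟨z, hz, rfl⟩ := zmask_test C.zero r h0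
      have h := hzero z hz
      simp only [chkZero, Bool.and_eq_true, decide_eq_true_eq, beq_iff_eq] at h
      obtain ⟨⟨⟨⟨⟨hzR, hz1⟩, hz2⟩, hodd⟩, he⟩, hx⟩ := h
      have e := act_eq3 (V := V) (hR _ hzR) (hK 0 hnK) (hK _ (lt_of_lt_of_le hz1 hnl)) (hR _ hzR) (hK _ hz2) he v
      rw [act_id hk0, hfix _ hz2, act_sgn (hR _ hzR), act_sgn (hK _ (lt_of_lt_of_le hz1 hnl))] at e
      have e' := congrArg φ e
      rw [hφsgn, hφk _ hz1, sgn_sgn, Bool.xor_comm, hx] at e'
      have h2 : 2 • f z.1 = 0 := by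
        rw [two_smul]
        nth_rw 2 [show f z.1 = sgn true (f z.1) from e']
        exact add_neg_cancel _
      have h1 : f z.1 = 0 := by
        have := hP (f z.1)
        rwa [← Nat.div_add_mod C.P 2, hodd, add_smul, mul_comm, mul_smul, h2, smul_zero, zero_add,
          one_smul] at this
      rw [h1, smul_zero]
    · rw [← Nat.div_add_mod (coefAt C.comb r) C.P, h0, add_zero, mul_comm, mul_smul, hP, smul_zero]
  · intro h; exact absurd (Finset.mem_range.2 hnR) h

end Cert

end CfsgLib.SolvCent
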