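/-
Perfect subgroups given by packed generators, and basic rules for the action of packed permutations.
-/
import Cfsg.Agent.Lib.SolvCent.Sound
set_option autoImplicit false
set_option linter.unusedSectionVars false
set_option linter.unusedVariables false

namespace CfsgLib.SolvCent

/-- The image of a point under a word. -/
def evW (L : List ℕ) : List ℕ → ℕ → ℕ
  | [], i => i
  | a :: w, i => ap (L.getD a 0) (evW L w i)

/-- The check that every generator is a commutator of words. -/
def perfectOk (n : ℕ) (L : List ℕ) (W : List (List ℕ × List ℕ)) : Bool :=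
  (L.all fun s => valid n s) &&
    ((List.range L.length).all fun a => match W[a]? with
      | none => false
      | some w => (w.1.all fun x => decide (x < L.length)) && (w.2.all fun x => decide (x < L.length)) &&
          (List.range n).all fun i => ap (L.getD a 0) (evW L w.2 (evW L w.1 i)) == evW L w.1 (evW L w.2 i)) &&
    L.any fun s => (List.range n).any fun i => !(ap s i == i)

variable {n : ℕ}

lemma not_solvable_of_perfectOk {L : List ℕ} {W : List (List ℕ × List ℕ)} (h : perfectOk n L W = true)
    (S : Subgroup (alternatingGroup (Fin n))) (hS : ∀ s ∈ L, ∀ σ, Rep s σ → σ ∈ S) : ¬ Group.IsSolvable S := by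
  classical
  simp only [perfectOk, Bool.and_eq_true, List.all_eq_true, List.mem_range, List.any_eq_true,
    Bool.not_eq_true', beq_eq_false_iff_ne] at h
  obtain ⟨⟨hv, hW⟩, s, hs, i, hi, hne⟩ := h
  have hex : ∀ a, ∃ σ : S, a < L.length → Rep (L.getD a 0) σ.1 := fun a => by
    by_cases ha : a < L.length
    · have hm : L.getD a 0 ∈ L := by
        rw [List.getD_eq_getElem _ _ ha]; exact List.getElem_mem ha
      obtain ⟨σ, hσ⟩ := exists_rep (n := n) (hv _ hm)
      exact ⟨⟨σ, hS _ hm σ hσ⟩, fun _ => hσ⟩
    · exact ⟨1, fun h => absurd h ha⟩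
  choose g hg using hex
  have hword : ∀ w : List ℕ, (∀ a ∈ w, a < L.length) → ∀ j : Fin n,
      ((w.map g).prod.1.1 j : ℕ) = evW L w j := by
    intro w
    induction w with
    | nil => intro _ j; rfl
    | cons a w ih =>
      intro hw j
      rw [evW, List.map_cons, List.prod_cons, ← ih (fun b hb => hw b (List.mem_cons_of_mem _ hb)) j,
        ← hg a (hw a (List.mem_cons_self ..))]
      rfl
  intro hsol
  obtain ⟨k, hk⟩ := hsol.solvable
  have key : ∀ m, ∀ a < L.length, g a ∈ derivedSeries S m := by
    intro m
    induction m with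
    | zero => intro a _; simp
    | succ m ih =>
      intro a ha
      have h := hW a ha
      split at h
      · exact absurd h (by simp)
      rename_i w hw
      simp only [Bool.and_eq_true, List.all_eq_true, List.mem_range, decide_eq_true_eq, beq_iff_eq] at h
      obtain ⟨⟨h1, h2⟩, h3⟩ := h
      have e : g a = (w.1.map g).prod * (w.2.map g).prod * (w.1.map g).prod⁻¹ * (w.2.map g).prod⁻¹ := by
        rw [eq_mul_inv_iff_mul_eq, eq_mul_inv_iff_mul_eq, mul_assoc]
        refine Subtype.ext (Subtype.ext (Equiv.ext fun j => Fin.ext ?_))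
        show ((g a).1.1 ((w.2.map g).prod.1.1 ((w.1.map g).prod.1.1 j)) : ℕ) =
          (w.1.map g).prod.1.1 ((w.2.map g).prod.1.1 j)
        rw [hg a ha, hword _ h2, hword _ h1, hword _ h1, hword _ h2]
        exact h3 j j.2
      rw [derivedSeries_succ, e, ← commutatorElement_def]
      refine Subgroup.commutator_mem_commutator (list_prod_mem ?_) (list_prod_mem ?_)
      · intro x hx
        obtain ⟨b, hb, rfl⟩ := List.mem_map.1 hx
        exact ih b (h1 b hb)
      · intro x hx
        obtain ⟨b, hb, rfl⟩ := List.mem_map.1 hx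
        exact ih b (h2 b hb)
  obtain ⟨a, ha, rfl⟩ := List.mem_iff_getElem.1 hs
  have := key k a ha
  rw [hk, Subgroup.mem_bot] at this
  have h1 := hg a ha ⟨i, hi⟩
  rw [List.getD_eq_getElem _ _ ha, this] at h1
  exact hne h1.symm

variable {V : Type*} [AddCommGroup V] [DistribMulAction (alternatingGroup (Fin n)) V]

/-- A vector fixed by a perfect group vanishes when the stabilisers are solvable. -/
lemma perfect_fix {L : List ℕ} {W : List (List ℕ × List ℕ)} (h : perfectOk n L W = true)
    (hsol : ∀ u : V, u ≠ 0 → Group.IsSolvable (MulAction.stabilizer (alternatingGroup (Fin n)) u))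
    (u : V) (hu : ∀ s ∈ L, act n s u = u) : u = 0 := by
  by_contra hne
  refine not_solvable_of_perfectOk h _ (fun s hs σ hσ => ?_) (hsol u hne)
  rw [MulAction.mem_stabilizer_iff, ← act_eq hσ]
  exact hu s hs

/-- The check of a relation with its validity. -/
def relOk (n a b c d : ℕ) : Bool := valid n a && valid n b && valid n c && valid n d && eq2 n a b c d

lemma rel {a b c d : ℕ} (h : relOk n a b c d = true) (u : V) : act n a (act n b u) = act n c (act n d u) := by
  simp only [relOk, Bool.and_eq_true] at h
  exact act_eq2 h.1.1.1.1 h.1.1.1.2 h.1.1.2 h.1.2 h.2 u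

lemma act_add {x : ℕ} (h : valid n x = true) (u w : V) : act n x (u + w) = act n x u + act n x w := by
  obtain ⟨σ, hσ⟩ := exists_rep h
  simp only [act_eq hσ, smul_add]

lemma act_neg {x : ℕ} (h : valid n x = true) (u : V) : act n x (-u) = -act n x u := by
  obtain ⟨σ, hσ⟩ := exists_rep h
  simp only [act_eq hσ, smul_neg]

lemma act_sub {x : ℕ} (h : valid n x = true) (u w : V) : act n x (u - w) = act n x u - act n x w := by
  rw [sub_eq_add_neg, sub_eq_add_neg, act_add h, act_neg h]

lemma act_zero {x : ℕ} (h : valid n x = true) : act n x (0 : V) = 0 := by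
  obtain ⟨σ, hσ⟩ := exists_rep h
  simp only [act_eq hσ, smul_zero]

lemma act_inj {x : ℕ} (h : valid n x = true) {u : V} (hu : act n x u = 0) : u = 0 := by
  obtain ⟨σ, hσ⟩ := exists_rep h
  rw [act_eq hσ] at hu
  simpa using congrArg (σ⁻¹ • ·) hu

lemma act_ne {x : ℕ} (h : valid n x = true) {u : V} (hu : u ≠ 0) : act n x u ≠ 0 := fun e => hu (act_inj h e)

lemma two_torsion_free {P : ℕ} (hP : ∀ u : V, P • u = 0) (hodd : P % 2 = 1) {u : V} (h : u + u = 0) : u = 0 := by
  have := hP u
  rwa [← Nat.div_add_mod P 2, hodd, add_smul, mul_comm, mul_smul, two_smul, h, smul_zero, zero_add,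
    one_smul] at this

lemma self_neg (hP : ∀ u : V, 2 • u = 0) (u : V) : -u = u := by
  rw [neg_eq_iff_add_eq_zero, ← two_smul ℕ]; exact hP u

/-- An eigenvector for an involution, keeping the common eigenvalues of permutations it normalises. -/
lemma eigen {P : ℕ} (hP : ∀ u : V, P • u = 0) (hodd : P % 2 = 1) {g one : ℕ} (hg : valid n g = true)
    (hone : isId n one = true) (hgg : relOk n g g one one = true) {x : V} (hx : x ≠ 0) :
    ∃ (b : Bool) (y : V), y ≠ 0 ∧ act n g y = sgn b y ∧ ∀ (h : ℕ) (c : Bool), valid n h = true →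
      act n h x = sgn c x → act n h (act n g x) = sgn c (act n g x) → act n h y = sgn c y := by
  have hg2 : ∀ u : V, act n g (act n g u) = u := fun u => by rw [rel hgg, act_id hone, act_id hone]
  have key : ∀ b, act n g (x + sgn b (act n g x)) = sgn b (x + sgn b (act n g x)) := fun b => by
    rw [act_add hg, act_sgn hg, hg2, sgn_add, sgn_sgn, Bool.xor_self, add_comm]; rfl
  have keep : ∀ (b : Bool) (h : ℕ) (c : Bool), valid n h = true →
      act n h x = sgn c x → act n h (act n g x) = sgn c (act n g x) →
      act n h (x + sgn b (act n g x)) = sgn c (x + sgn b (act n g x)) := fun b h c hv h1 h2 => by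
    rw [act_add hv, act_sgn hv, h1, h2, sgn_add, sgn_sgn, sgn_sgn, Bool.xor_comm]
  by_cases h : x + sgn false (act n g x) = 0
  · refine ⟨true, _, fun e => hx (two_torsion_free hP hodd ?_), key true, keep true⟩
    have := add_eq_zero_iff_eq_neg.1 h
    simp only [sgn, if_true, Bool.false_eq_true, if_false] at e this
    rw [← add_neg_eq_zero] at this
    calc x + x = (x + -act n g x) + (x + act n g x) := by abel
      _ = 0 := by rw [e, show x + act n g x = 0 by simpa [sgn] using h, add_zero]
  · exact ⟨false, _, h, key false, keep false⟩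

/-- A fixed vector for an involution in characteristic two. -/
lemma eigen2 (hP : ∀ u : V, 2 • u = 0) {g one : ℕ} (hg : valid n g = true) (hone : isId n one = true)
    (hgg : relOk n g g one one = true) {x : V} (hx : x ≠ 0) :
    ∃ y : V, y ≠ 0 ∧ act n g y = y ∧ ∀ h : ℕ, valid n h = true →
      act n h x = x → act n h (act n g x) = act n g x → act n h y = y := by
  have hg2 : ∀ u : V, act n g (act n g u) = u := fun u => by rw [rel hgg, act_id hone, act_id hone]
  by_cases h : x + act n g x = 0
  · refine ⟨x, hx, ?_, fun _ _ h1 _ => h1⟩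
    rw [← neg_eq_of_add_eq_zero_right h, self_neg hP]
  · refine ⟨_, h, ?_, fun k hk h1 h2 => ?_⟩
    · rw [act_add hg, hg2, add_comm]
    · rw [act_add hk, h1, h2]

end CfsgLib.SolvCent
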