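/-
Covers of alternating groups in which the centralisers of non-central p-elements are solvable.
-/
import Cfsg.Agent.Lib.SolvCent.Perfect
import Cfsg.Agent.Lib.CN.Lift
set_option autoImplicit false
set_option linter.unusedSectionVars false

namespace CfsgLib.SolvCent

open Subgroup
open scoped Pointwise

universe u

/-- The hypothesis on centralisers. -/
def Hyp (p : ℕ) (H : Type*) [Group H] : Prop :=
  ∀ x : H, x ∉ center H → (∃ k : ℕ, orderOf x = p ^ k) → Group.IsSolvable (centralizer ({x} : Set H))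

lemma alt5_not_solvable : ¬ Group.IsSolvable (alternatingGroup (Fin 5)) := fun hsol =>
  haveI := hsol
  not_solvable_of_perfectOk (n := 5) (L := [0x04321, 0x42301])
    (W := [([1, 0, 1], [1, 0, 0]), ([0, 1, 0, 0, 0], [1, 0, 0, 0, 1, 0])]) (by decide +kernel) ⊤
    (fun _ _ _ _ => mem_top _) (Group.isSolvable_of_isSolvable_injective (f := (⊤ : Subgroup _).subtype) (⊤ : Subgroup _).subtype_injective)

lemma Hyp.subgroup {p : ℕ} {H : Type*} [Group H] (h : Hyp p H) (K : Subgroup H) : Hyp p K := by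
  intro x hx ⟨k, hk⟩
  have := h x (fun hc => hx (mem_center_iff.2 fun g => Subtype.ext (mem_center_iff.1 hc g)))
    ⟨k, by rw [← hk, orderOf_submonoid]⟩
  let f : centralizer ({x} : Set K) →* centralizer ({(x : H)} : Set H) :=
    MonoidHom.mk' (fun c => ⟨((c : K) : H), mem_centralizer_singleton_iff.2
      (congrArg Subtype.val (mem_centralizer_singleton_iff.1 c.2))⟩) fun _ _ => rfl
  exact Group.isSolvable_of_isSolvable_injective (f := f) fun a b e =>
    Subtype.ext (Subtype.ext (congrArg (fun c => (c.1 : H)) e))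

variable {p : ℕ} [hp : Fact p.Prime] {H : Type*} [Group H]

/-- Elements fixing a non-central p-element modulo the centre form a solvable subgroup. -/
lemma solvable_of_mod_center (h : Hyp p H) {x : H} (hx : x ∉ center H) (ho : ∃ k : ℕ, orderOf x = p ^ k)
    (D : Subgroup H) (hD : ∀ d ∈ D, d * x * d⁻¹ * x⁻¹ ∈ center H) : Group.IsSolvable D := by
  have := h x hx ho
  let ψ : D →* center H := MonoidHom.mk' (fun d => ⟨d * x * d⁻¹ * x⁻¹, hD d d.2⟩) fun d e => by
    apply Subtype.ext
    show ((d : H) * e) * x * ((d : H) * e)⁻¹ * x⁻¹ = ((d : H) * x * (d : H)⁻¹ * x⁻¹) * ((e : H) * x * (e : H)⁻¹ * x⁻¹)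
    have hc := mem_center_iff.1 (hD e e.2)
    calc ((d : H) * e) * x * ((d : H) * e)⁻¹ * x⁻¹
        = (d : H) * ((e : H) * x * (e : H)⁻¹ * x⁻¹) * x * (d : H)⁻¹ * x⁻¹ := by group
      _ = ((e : H) * x * (e : H)⁻¹ * x⁻¹) * ((d : H) * x * (d : H)⁻¹ * x⁻¹) := by
          rw [hc (d : H)]; simp only [mul_assoc]
      _ = _ := (hc _).symm
  let f : (centralizer ({x} : Set H) ⊓ D : Subgroup H) →* D := Subgroup.inclusion inf_le_right
  haveI : Group.IsSolvable (centralizer ({x} : Set H) ⊓ D : Subgroup H) :=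
    Group.isSolvable_of_isSolvable_injective (f := Subgroup.inclusion (inf_le_left (b := D))) (Subgroup.inclusion_injective _)
  haveI : Group.IsSolvable (center H) := Group.isSolvable_of_comm fun a b => mul_comm' a b
  refine Group.isSolvable_of_ker_le_range f ψ fun d hd => ⟨⟨d, mem_inf.2 ⟨?_, d.2⟩⟩, rfl⟩
  have e : (d : H) * x * (d : H)⁻¹ * x⁻¹ = 1 := congrArg Subtype.val (MonoidHom.mem_ker.1 hd)
  rw [mem_centralizer_singleton_iff]
  exact mul_inv_eq_iff_eq_mul.1 (mul_inv_eq_one.1 e)

section Cover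

variable [Finite H] {N : ℕ} (π : H →* alternatingGroup (Fin N))
  (f5 : alternatingGroup (Fin 5) →* alternatingGroup (Fin N)) (hf5 : Function.Injective f5)

include hf5 in
lemma not_range_le (K : Subgroup H) [Group.IsSolvable K] : ¬ f5.range ≤ K.map π := by
  intro hle
  haveI : Group.IsSolvable (K.map π) := Group.isSolvable_of_surjective (π.subgroupMap_surjective K)
  let g : alternatingGroup (Fin 5) →* K.map π :=
    f5.codRestrict _ fun σ => hle (MonoidHom.mem_range.2 ⟨σ, rfl⟩)
  exact alt5_not_solvable (Group.isSolvable_of_isSolvable_injective (f := g)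
    fun a b e => hf5 (congrArg Subtype.val e))

variable {a : alternatingGroup (Fin N)} (hN : 4 ≤ N) (ha1 : a ≠ 1) (hap : a ^ p = 1)

include hN ha1 in
lemma not_mem_center_of_map (hπ : Function.Surjective π) {x : H} (hx : π x = a) : x ∉ center H := by
  intro hc
  have : a ∈ center (alternatingGroup (Fin N)) := mem_center_iff.2 fun g => by
    obtain ⟨y, rfl⟩ := hπ g
    rw [← hx, ← map_mul, ← map_mul, mem_center_iff.1 hc y]
  rw [alternatingGroup.center_eq_bot (by simpa using hN)] at this
  exact ha1 (mem_bot.1 this)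

include hap in
lemma exists_orderOf_eq (hker : IsPGroup p π.ker) {x : H} (hx : π x = a) : ∃ k : ℕ, orderOf x = p ^ k := by
  obtain ⟨j, hj⟩ := hker ⟨x ^ p, by rw [MonoidHom.mem_ker, map_pow, hx, hap]⟩
  have h1 : x ^ p ^ (j + 1) = 1 := by
    have := congrArg Subtype.val hj
    simpa [pow_succ', pow_mul] using this
  obtain ⟨k, -, hk⟩ := (Nat.dvd_prime_pow hp.out).1 (orderOf_dvd_of_pow_eq_one h1)
  exact ⟨k, hk⟩

variable (hcomm : ∀ σ, f5 σ * a = a * f5 σ)

include hf5 hN ha1 hap hcomm in
/-- The kernel cannot be central. -/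
lemma ker_not_central (h : Hyp p H) (hπ : Function.Surjective π) (hker : IsPGroup p π.ker) :
    ¬ π.ker ≤ center H := by
  intro hle
  obtain ⟨x, hx⟩ := hπ a
  haveI : Group.IsSolvable (f5.range.comap π) :=
    solvable_of_mod_center h (not_mem_center_of_map π hN ha1 hπ hx) (exists_orderOf_eq π hap hker hx) _
      fun d hd => hle <| by
        obtain ⟨σ, hσ⟩ := MonoidHom.mem_range.1 (mem_comap.1 hd)
        rw [MonoidHom.mem_ker, map_mul, map_mul, map_mul, map_inv, map_inv, hx, ← hσ, hcomm]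
        group
  refine not_range_le π f5 hf5 (f5.range.comap π) ?_
  rw [map_comap_eq_self_of_surjective hπ]

include hf5 hN ha1 hap hcomm in
/-- For primes not dividing sixty the kernel cannot be a p-group. -/
lemma false_of_coprime (hp60 : Nat.Coprime p 60) (h : Hyp p H) (hπ : Function.Surjective π)
    (hker : IsPGroup p π.ker) : False := by
  obtain ⟨x, hx⟩ := hπ a
  set D := f5.range.comap π with hD
  set φ := π.comp D.subtype with hφ
  obtain ⟨j, hj⟩ := IsPGroup.iff_card.1 hker
  have hRD : π.ker ≤ D := fun r hr => by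
    rw [hD, mem_comap, MonoidHom.mem_ker.1 hr]; exact one_mem _
  have hkerφ : φ.ker = π.ker.subgroupOf D := rfl
  have hcardker : Nat.card φ.ker = p ^ j := by
    rw [hkerφ, Nat.card_congr (subgroupOfEquivOfLe hRD).toEquiv, hj]
  have hrange : φ.range = f5.range := by
    rw [hφ, MonoidHom.range_comp, range_subtype, hD, map_comap_eq_self_of_surjective hπ]
  have hindex : φ.ker.index = 60 := by
    rw [index_ker, hrange, Nat.card_congr (MonoidHom.ofInjective hf5).toEquiv.symm]
    rw [nat_card_alternatingGroup]; simp [Nat.factorial]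
  obtain ⟨K, hK⟩ := exists_right_complement'_of_coprime (N := φ.ker)
    (by rw [hcardker, hindex]; exact hp60.pow_left j)
  set C := K.map D.subtype with hC
  have hcardC : Nat.card C = 60 := by
    rw [hC, card_map_of_injective D.subtype_injective, ← hindex, hK.symm.index_eq_card]
  have hCker : ∀ c ∈ C, π c = 1 → c = 1 := by
    rintro _ ⟨k, hk, rfl⟩ h1
    have : k ∈ φ.ker ⊓ K := ⟨h1, hk⟩
    rw [hK.disjoint.eq_bot, mem_bot] at this
    rw [this]; rfl
  have hconj : ∀ c ∈ C, π (x * c * x⁻¹) = π c := by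
    rintro _ ⟨k, -, rfl⟩
    obtain ⟨σ, hσ⟩ := MonoidHom.mem_range.1 (mem_comap.1 k.2)
    rw [map_mul, map_mul, map_inv, hx]
    show a * π (k : H) * a⁻¹ = π (k : H)
    rw [← hσ, ← hcomm, mul_inv_cancel_right]
  have hxC : ∀ c ∈ C, x * c * x⁻¹ ∈ MulAut.conj x • C := fun c hc =>
    ⟨c, hc, by simp [MulAut.conj_apply]⟩
  have hB' : MulAut.conj x • C ≤ π.ker ⊔ C := by
    rintro _ ⟨c, hc, rfl⟩
    simp only [MulDistribMulAction.toMonoidEnd_apply, MulDistribMulAction.toMonoidHom_apply,
      MulAut.smul_def, MulAut.conj_apply]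
    rw [show x * c * x⁻¹ = x * c * x⁻¹ * c⁻¹ * c by group]
    refine mul_mem (mem_sup_left ?_) (mem_sup_right hc)
    rw [MonoidHom.mem_ker, map_mul, hconj c hc, map_inv, mul_inv_cancel]
  have hcardB' : Nat.card (MulAut.conj x • C : Subgroup H) = Nat.card C :=
    Nat.card_congr (Subgroup.equivSMul (MulAut.conj x) C).toEquiv.symm
  haveI := hker.isNilpotent
  obtain ⟨n, hn, hne⟩ := Solvable.exists_conj_eq_of_coprime (N := π.ker) (B := C)
    le_normalizer_of_normal hB' hcardB' (by rw [hj, hcardC]; exact hp60.pow_left j) (Or.inl inferInstance)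
  have hy : π (n⁻¹ * x) = a := by rw [map_mul, map_inv, MonoidHom.mem_ker.1 hn, inv_one, one_mul, hx]
  have hcent : C ≤ centralizer ({n⁻¹ * x} : Set H) := fun c hc => by
    obtain ⟨c', hc', e⟩ : x * c * x⁻¹ ∈ MulAut.conj n • C := by rw [hne]; exact hxC c hc
    simp only [MulDistribMulAction.toMonoidEnd_apply, MulDistribMulAction.toMonoidHom_apply,
      MulAut.smul_def, MulAut.conj_apply] at e
    have h1 : π c' = π c := by
      rw [← hconj c hc, ← e, map_mul, map_mul, map_inv, MonoidHom.mem_ker.1 hn, inv_one, one_mul, mul_one]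
    have h2 : c' = c := by
      rw [← mul_inv_eq_one]
      exact hCker _ (mul_mem hc' (inv_mem hc)) (by rw [map_mul, map_inv, h1, mul_inv_cancel])
    subst h2
    rw [mem_centralizer_singleton_iff]
    calc c' * (n⁻¹ * x) = n⁻¹ * (n * c' * n⁻¹) * x := by group
      _ = n⁻¹ * (x * c' * x⁻¹) * x := by rw [e]
      _ = n⁻¹ * x * c' := by group
  have := h _ (not_mem_center_of_map π hN ha1 hπ hy) (exists_orderOf_eq π hap hker hy)
  refine not_range_le π f5 hf5 (centralizer ({n⁻¹ * x} : Set H)) ?_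
  intro g hg
  obtain ⟨d, hd, rfl⟩ : g ∈ D.map π := by rw [hD, map_comap_eq_self_of_surjective hπ]; exact hg
  obtain ⟨⟨⟨r, hr⟩, ⟨k, hk⟩⟩, e⟩ := hK.2 (⟨d, hd⟩ : D)

  refine ⟨(k : D), hcent ⟨k, hk, rfl⟩, ?_⟩
  have e' : (r : H) * (k : H) = d := congrArg Subtype.val e
  rw [← e', map_mul, show π (r : H) = 1 from hr, one_mul]

end Cover

end CfsgLib.SolvCent
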