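/-
Removing the kernel: descent for covers of alternating groups, and the module of a non-central kernel.
-/
import Cfsg.Agent.Lib.SolvCent.Reduce
set_option autoImplicit false
set_option linter.unusedSectionVars false

namespace CfsgLib.SolvCent

open Subgroup
open scoped Pointwise commutatorElement

universe u

variable {p : ℕ} [hp : Fact p.Prime]

/-- The hypothesis passes to quotients by normal subgroups of order prime to p. -/
lemma Hyp.quotient {H : Type*} [Group H] [Finite H] (h : Hyp p H) (Q : Subgroup H) [Q.Normal]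
    (hcop : ∀ k : ℕ, (p ^ k).Coprime (Nat.card Q)) : Hyp p (H ⧸ Q) := by
  intro xb hxb ⟨k, hk⟩
  obtain ⟨x0, rfl⟩ := QuotientGroup.mk'_surjective Q xb
  set b := ordCompl[p] (orderOf x0) with hb
  have hpb : (p ^ k).Coprime b :=
    Nat.Coprime.pow_left k ((Nat.Prime.coprime_iff_not_dvd hp.out).2
      (Nat.not_dvd_ordCompl hp.out (orderOf_pos x0).ne'))
  obtain ⟨m, hm1, hm0⟩ := Nat.chineseRemainder hpb 1 0
  have hmk : QuotientGroup.mk' Q (x0 ^ m) = QuotientGroup.mk' Q x0 := by
    rw [map_pow]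
    conv_rhs => rw [← pow_one (QuotientGroup.mk' Q x0)]
    rw [pow_eq_pow_iff_modEq, hk]
    exact hm1
  have hy : (x0 ^ m) ^ p ^ (orderOf x0).factorization p = 1 := by
    rw [← pow_mul, ← orderOf_dvd_iff_pow_eq_one]
    conv_lhs => rw [← Nat.ordProj_mul_ordCompl_eq_self (orderOf x0) p]
    rw [mul_comm]
    exact mul_dvd_mul_right (Nat.modEq_zero_iff_dvd.1 hm0) _
  obtain ⟨j, -, hj⟩ := (Nat.dvd_prime_pow hp.out).1 (orderOf_dvd_of_pow_eq_one hy)
  have hnc : x0 ^ m ∉ center H := fun hc => hxb <| mem_center_iff.2 fun g => by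
    obtain ⟨g, rfl⟩ := QuotientGroup.mk'_surjective Q g
    rw [← hmk, ← map_mul, ← map_mul, mem_center_iff.1 hc g]
  have := h _ hnc ⟨j, hj⟩
  haveI : Group.IsSolvable ((centralizer ({x0 ^ m} : Set H)).map (QuotientGroup.mk' Q)) :=
    Group.isSolvable_of_surjective ((QuotientGroup.mk' Q).subgroupMap_surjective _)
  have hle : centralizer ({QuotientGroup.mk' Q x0} : Set (H ⧸ Q)) ≤
      (centralizer ({x0 ^ m} : Set H)).map (QuotientGroup.mk' Q) := by
    intro g hg
    obtain ⟨g, rfl⟩ := QuotientGroup.mk'_surjective Q g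
    obtain ⟨c, hc, e⟩ := CN.exists_commute_lift Q (x := g) (y := x0 ^ m) (by rw [hj]; exact hcop j)
      (by rw [hmk]; exact mem_centralizer_singleton_iff.1 hg)
    refine ⟨c * g, mem_centralizer_singleton_iff.2 e, ?_⟩
    rw [map_mul, show QuotientGroup.mk' Q c = 1 from (QuotientGroup.eq_one_iff c).2 hc, one_mul]
  exact Group.isSolvable_of_isSolvable_injective (f := Subgroup.inclusion hle) (Subgroup.inclusion_injective _)

/-- It suffices to treat covers whose kernel is a p-group. -/
theorem no_cover {N : ℕ}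
    (base : ∀ (H : Type u) [Group H] [Finite H], Hyp p H → ∀ π : H →* alternatingGroup (Fin N),
      Function.Surjective π → IsPGroup p π.ker → False) :
    ∀ (H : Type u) [Group H] [Finite H], Hyp p H → ∀ π : H →* alternatingGroup (Fin N),
      Function.Surjective π → False := by
  suffices key : ∀ c : ℕ, ∀ (H : Type u) [Group H] [Finite H], Nat.card H = c → Hyp p H →
      ∀ π : H →* alternatingGroup (Fin N), Function.Surjective π → False by
    intro H _ _; exact key _ H rfl
  intro c
  induction c using Nat.strong_induction_on with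
  | _ c ih =>
  intro H _ _ hc h π hπ
  subst hc
  -- no proper subgroup maps onto the alternating group
  have hmin : ∀ M : Subgroup H, M.map π = ⊤ → M = ⊤ := by
    intro M hM
    by_contra hne
    refine ih _ ?_ M rfl (h.subgroup M) (π.comp M.subtype) ?_
    · refine lt_of_le_of_ne (Subgroup.card_le_card_group M) fun e => hne (Subgroup.eq_top_of_card_eq M e)
    · rw [← MonoidHom.range_eq_top, MonoidHom.range_comp, range_subtype, hM]
  have hfrat : π.ker ≤ frattini H := by
    simp only [frattini, Order.radical, le_iInf_iff]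
    intro M hM
    by_contra hle
    refine hM.1 (hmin M ?_)
    have htop : M ⊔ π.ker = ⊤ := hM.2 _ (lt_of_le_of_ne le_sup_left fun e => hle (e ▸ le_sup_right))
    have := congrArg (Subgroup.map π) htop
    rwa [Subgroup.map_sup, (Subgroup.map_eq_bot_iff π.ker).2 le_rfl, sup_bot_eq, ← MonoidHom.range_eq_map,
      MonoidHom.range_eq_top.2 hπ] at this
  haveI := frattini_nilpotent (G := H)
  haveI hnil : Group.IsNilpotent π.ker := Group.nilpotent_of_mulEquiv (subgroupOfEquivOfLe hfrat)
  by_cases hker : IsPGroup p π.ker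
  · exact base H h π hπ hker
  -- a Sylow subgroup of the kernel for another prime
  obtain ⟨q, hq, hdvd, hqp⟩ : ∃ q : ℕ, q.Prime ∧ q ∣ Nat.card π.ker ∧ q ≠ p := by
    by_contra hcon
    push Not at hcon
    exact hker (IsPGroup.of_card (Nat.eq_prime_pow_of_unique_prime_dvd Nat.card_pos.ne' fun {q} hq hd => hcon q hq hd))
  haveI : Fact q.Prime := ⟨hq⟩
  obtain ⟨S⟩ : Nonempty (Sylow q π.ker) := inferInstance
  haveI hSn : S.Normal := ((Group.isNilpotent_of_finite_tfae (G := π.ker)).out 0 3 rfl rfl).1 hnil q inferInstance S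
  haveI : (S : Subgroup π.ker).Characteristic := S.characteristic_of_normal hSn
  set Q : Subgroup H := (S : Subgroup π.ker).map π.ker.subtype with hQ
  have hQker : Q ≤ π.ker := map_subtype_le _
  have hcardQ : Nat.card Q = Nat.card S := card_map_of_injective π.ker.subtype_injective
  have hQ1 : 1 < Nat.card Q := by
    rw [hcardQ, S.card_eq_multiplicity]
    exact Nat.one_lt_pow (hq.factorization_pos_of_dvd Nat.card_pos.ne' hdvd).ne' hq.one_lt
  have hcop : ∀ k : ℕ, (p ^ k).Coprime (Nat.card Q) := fun k => by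
    rw [hcardQ, S.card_eq_multiplicity]
    exact ((Nat.coprime_primes hp.out hq).2 (Ne.symm hqp)).pow _ _
  refine ih _ ?_ (H ⧸ Q) rfl (h.quotient Q hcop) (QuotientGroup.lift Q π hQker) ?_
  · rw [card_eq_card_quotient_mul_card_subgroup Q]
    exact lt_mul_of_one_lt_right Nat.card_pos hQ1
  · intro g
    obtain ⟨x, rfl⟩ := hπ g
    exact ⟨QuotientGroup.mk x, rfl⟩

variable {H : Type u} [Group H] [Finite H] {N : ℕ}

/-- The module lemma turns a non-central kernel into a contradiction. -/
lemma false_of_not_central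
    (hmod : ∀ (V : Type u) [AddCommGroup V] [DistribMulAction (alternatingGroup (Fin N)) V] [Nontrivial V],
      (∀ u : V, p • u = 0) →
      (∀ u : V, u ≠ 0 → Group.IsSolvable (MulAction.stabilizer (alternatingGroup (Fin N)) u)) → False)
    (h : Hyp p H) (π : H →* alternatingGroup (Fin N)) (hπ : Function.Surjective π) (hker : IsPGroup p π.ker)
    (hnc : ¬ π.ker ≤ center H) : False := by
  classical
  haveI hnil : Group.IsNilpotent π.ker := hker.isNilpotent
  obtain ⟨k, hk⟩ := (isNilpotent_iff_lowerCentralSeries π.ker).1 hnil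
  have hex : ∃ i, π.ker.lowerCentralSeries i ≤ center H := ⟨k, hk ▸ bot_le⟩
  set i := Nat.find hex with hi
  have hi0 : i ≠ 0 := fun e => hnc (by
    have := Nat.find_spec hex
    rwa [← hi, e, Subgroup.lowerCentralSeries_zero] at this)
  set L := π.ker.lowerCentralSeries (i - 1) with hL
  have hLnc : ¬ L ≤ center H := Nat.find_min hex (show i - 1 < i by omega)
  have hLker : L ≤ π.ker := lowerCentralSeries_le_self _ _
  have hLR : ⁅L, π.ker⁆ ≤ center H := by
    rw [hL, ← Subgroup.lowerCentralSeries_succ, Nat.sub_add_cancel (Nat.pos_of_ne_zero hi0)]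
    exact Nat.find_spec hex
  let mk := QuotientGroup.mk' (center H)
  have hcomm : ∀ x ∈ L, ∀ r ∈ π.ker, Commute (mk x) (mk r) := fun x hx r hr => by
    have h0 : mk ⁅x, r⁆ = 1 := (QuotientGroup.eq_one_iff _).2 (hLR (commutator_mem_commutator hx hr))
    exact commutatorElement_eq_one_iff_mul_comm.1 (by rw [← map_commutatorElement]; exact h0)
  let W : Subgroup (H ⧸ center H) :=
    { carrier := {w | w ∈ L.map mk ∧ w ^ p = 1}
      one_mem' := ⟨one_mem _, one_pow _⟩
      mul_mem' := by
        rintro a b ⟨ha, ha'⟩ ⟨hb, hb'⟩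
        refine ⟨mul_mem ha hb, ?_⟩
        obtain ⟨x, hx, rfl⟩ := ha; obtain ⟨y, hy, rfl⟩ := hb
        rw [(hcomm x hx y (hLker hy)).mul_pow, ha', hb', one_mul]
      inv_mem' := fun {a} ha => ⟨inv_mem ha.1, by rw [inv_pow, ha.2, inv_one]⟩ }
  have hmemW : ∀ w : H ⧸ center H, w ∈ W ↔ w ∈ L.map mk ∧ w ^ p = 1 := fun _ => Iff.rfl
  haveI : (L.map mk).Normal := Subgroup.Normal.map inferInstance _ (QuotientGroup.mk'_surjective _)
  haveI hWn : W.Normal := ⟨fun w hw g => ⟨Subgroup.Normal.conj_mem inferInstance w hw.1 g,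
    by rw [conj_pow, hw.2, mul_one, mul_inv_cancel]⟩⟩
  letI : CommGroup W :=
    { (inferInstance : Group W) with
      mul_comm := fun a b => by
        obtain ⟨x, hx, ex⟩ := a.2.1; obtain ⟨y, hy, ey⟩ := b.2.1
        exact Subtype.ext (by rw [Subgroup.coe_mul, Subgroup.coe_mul, ← ex, ← ey]; exact hcomm x hx y (hLker hy)) }
  haveI : Nontrivial W := by
    obtain ⟨x, hx, hxc⟩ := SetLike.not_le_iff_exists.1 hLnc
    have hne : mk x ≠ 1 := fun e => hxc ((QuotientGroup.eq_one_iff _).1 e)
    obtain ⟨j, hj⟩ := hker ⟨x, hLker hx⟩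
    have hj' : mk x ^ p ^ j = 1 := by
      rw [← map_pow, show x ^ p ^ j = 1 from congrArg Subtype.val hj, map_one]
    obtain ⟨e, -, he⟩ := (Nat.dvd_prime_pow hp.out).1 (orderOf_dvd_of_pow_eq_one hj')
    have he0 : e ≠ 0 := fun e0 => hne (orderOf_eq_one_iff.1 (by rw [he, e0, pow_zero]))
    have hep : p ^ (e - 1) * p = p ^ e := by rw [← pow_succ, Nat.sub_add_cancel (Nat.pos_of_ne_zero he0)]
    refine ⟨⟨mk x ^ p ^ (e - 1), pow_mem (mem_map_of_mem _ hx) _, ?_⟩, 1, fun e1 => ?_⟩
    · rw [← pow_mul, hep, ← he, pow_orderOf_eq_one]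
    · have h1 := orderOf_dvd_of_pow_eq_one (congrArg Subtype.val e1)
      rw [he, Nat.pow_dvd_pow_iff_le_right hp.out.one_lt] at h1
      omega
  let φ : H →* MulAut W := (MulAut.conjNormal (H := W)).comp mk
  have hφ : π.ker ≤ φ.ker := fun r hr => MonoidHom.mem_ker.2 <| MulEquiv.ext fun w => Subtype.ext <| by
    obtain ⟨x, hx, ex⟩ := w.2.1
    show mk r * (w : H ⧸ center H) * (mk r)⁻¹ = w
    rw [← ex, mul_inv_eq_iff_eq_mul]
    exact (hcomm x hx r hr).symm
  let ψ : alternatingGroup (Fin N) →* MulAut W := π.liftOfSurjective hπ ⟨φ, hφ⟩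
  have hψ : ∀ g, ψ (π g) = φ g := fun g => π.liftOfRightInverse_comp_apply _ _ ⟨φ, hφ⟩ g
  letI : DistribMulAction (alternatingGroup (Fin N)) (Additive W) :=
    { smul := fun g u => Additive.ofMul (ψ g u.toMul)
      one_smul := fun u => by show Additive.ofMul (ψ 1 u.toMul) = u; rw [map_one]; rfl
      mul_smul := fun g g' u => by
        show Additive.ofMul (ψ (g * g') u.toMul) = Additive.ofMul (ψ g (ψ g' u.toMul))
        rw [map_mul]; rfl
      smul_zero := fun g => by show Additive.ofMul (ψ g 1) = Additive.ofMul 1; rw [map_one]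
      smul_add := fun g u v => by
        show Additive.ofMul (ψ g (u.toMul * v.toMul)) = Additive.ofMul (ψ g u.toMul * ψ g v.toMul)
        rw [map_mul] }
  refine hmod (Additive W) (fun u => ?_) fun u hu => ?_
  · apply Additive.toMul.injective
    rw [toMul_nsmul]
    exact Subtype.ext u.toMul.2.2
  obtain ⟨x, hx, ex⟩ := u.toMul.2.1
  have hxc : x ∉ center H := fun hc => hu <| Additive.toMul.injective <| Subtype.ext <| by
    rw [← ex]; exact (QuotientGroup.eq_one_iff _).2 hc
  obtain ⟨j, hj⟩ := hker ⟨x, hLker hx⟩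
  obtain ⟨e, -, he⟩ := (Nat.dvd_prime_pow hp.out).1
    (orderOf_dvd_of_pow_eq_one (show x ^ p ^ j = 1 from congrArg Subtype.val hj))
  set St := MulAction.stabilizer (alternatingGroup (Fin N)) u with hSt
  haveI : Group.IsSolvable (St.comap π) := solvable_of_mod_center h hxc ⟨e, he⟩ _ fun d hd => by
    have h1 : (ψ (π d) u.toMul : W) = u.toMul := congrArg Additive.toMul (show π d • u = u from MulAction.mem_stabilizer_iff.1 (Subgroup.mem_comap.1 hd))
    rw [hψ] at h1
    have h2 : mk d * (u.toMul : H ⧸ center H) * (mk d)⁻¹ = u.toMul := congrArg Subtype.val h1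
    rw [← ex, ← map_mul, ← map_inv, ← map_mul] at h2
    rw [← QuotientGroup.eq_one_iff]
    show mk (d * x * d⁻¹ * x⁻¹) = 1
    rw [map_mul, h2, map_inv, mul_inv_cancel]
  have := Group.isSolvable_of_surjective (π.subgroupMap_surjective (St.comap π))
  rwa [map_comap_eq_self_of_surjective hπ] at this

end CfsgLib.SolvCent
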