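/-
In characteristic five no non-trivial module for A₁₀ has all stabilisers of non-zero vectors solvable.
-/
import Cfsg.Agent.Lib.SolvCent.Perfect
import Cfsg.Agent.Lib.SolvCent.Data.A0
import Cfsg.Agent.Lib.SolvCent.Data.A1
import Cfsg.Agent.Lib.SolvCent.Data.B000
import Cfsg.Agent.Lib.SolvCent.Data.B001
import Cfsg.Agent.Lib.SolvCent.Data.B010
import Cfsg.Agent.Lib.SolvCent.Data.B011
import Cfsg.Agent.Lib.SolvCent.Data.B100
import Cfsg.Agent.Lib.SolvCent.Data.B101
import Cfsg.Agent.Lib.SolvCent.Data.B110
import Cfsg.Agent.Lib.SolvCent.Data.B111
set_option autoImplicit false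
set_option linter.style.longLine false
set_option linter.unusedSectionVars false

namespace CfsgLib.SolvCent.Mod10

variable {V : Type*} [AddCommGroup V] [DistribMulAction (alternatingGroup (Fin 10)) V]

/-- A four-group with a fixed-point-free automorphism of order three acts trivially. -/
lemma four (hP : ∀ u : V, 5 • u = 0) (U : V → Prop) (hUadd : ∀ u w, U u → U w → U (u + w)) (hUneg : ∀ u, U u → U (-u))
    {a b c t : ℕ} (hUa : ∀ u, U u → U (act 10 a u)) (hUb : ∀ u, U u → U (act 10 b u)) (hUt : ∀ u, U u → U (act 10 t u))
    (h : (relOk 10 a a 654820258320 654820258320 && relOk 10 b b 654820258320 654820258320 && relOk 10 a b c 654820258320 &&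
      relOk 10 b a c 654820258320 && relOk 10 t a b t && relOk 10 t b c t && relOk 10 t c a t) = true)
    (ht3 : ∀ u : V, act 10 t (act 10 t (act 10 t u)) = u)
    (hfree : ∀ u, U u → act 10 t u = u → u = 0) {u : V} (hu : U u) : act 10 a u = u := by
  simp only [Bool.and_eq_true] at h
  obtain ⟨⟨⟨⟨⟨⟨haa, hbb⟩, hab⟩, hba⟩, hta⟩, htb⟩, htc⟩ := h
  have h1 : isId 10 654820258320 = true := by decide +kernel
  have ha : valid 10 a = true := by simp only [relOk, Bool.and_eq_true] at haa; exact haa.1.1.1.1
  have hb : valid 10 b = true := by simp only [relOk, Bool.and_eq_true] at hbb; exact hbb.1.1.1.1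
  have ht : valid 10 t = true := by simp only [relOk, Bool.and_eq_true] at hta; exact hta.1.1.1.1
  have hc : valid 10 c = true := by simp only [relOk, Bool.and_eq_true] at hab; exact hab.1.1.2
  have Ea : ∀ w : V, act 10 a (act 10 a w) = w := fun w => by rw [rel haa, act_id h1, act_id h1]
  have Eb : ∀ w : V, act 10 b (act 10 b w) = w := fun w => by rw [rel hbb, act_id h1, act_id h1]
  have Ec : ∀ w : V, act 10 a (act 10 b w) = act 10 c w := fun w => by rw [rel hab, act_id h1]
  have Ec' : ∀ w : V, act 10 b (act 10 a w) = act 10 c w := fun w => by rw [rel hba, act_id h1]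
  have Eta : ∀ w : V, act 10 t (act 10 a w) = act 10 b (act 10 t w) := rel hta
  have Etb : ∀ w : V, act 10 t (act 10 b w) = act 10 c (act 10 t w) := rel htb
  have Etc : ∀ w : V, act 10 t (act 10 c w) = act 10 a (act 10 t w) := rel htc
  have two : ∀ w : V, w + w = 0 → w = 0 := fun w => two_torsion_free hP (by norm_num)
  have orb : ∀ w, U w → w + act 10 t w + act 10 t (act 10 t w) = 0 := fun w hw =>
    hfree _ (hUadd _ _ (hUadd _ _ hw (hUt _ hw)) (hUt _ (hUt _ hw))) (by rw [act_add ht, act_add ht, ht3]; abel)
  set x := u - act 10 a u with hx
  have hUx : U x := by rw [hx, sub_eq_add_neg]; exact hUadd _ _ hu (hUneg _ (hUa _ hu))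
  have hax : act 10 a x = -x := by rw [hx, act_sub ha, Ea, neg_sub]
  have hp : x + act 10 b x = 0 := by
    set w := x + act 10 b x with hw
    have hUw : U w := hUadd _ _ hUx (hUb _ hUx)
    have hbw : act 10 b w = w := by rw [hw, act_add hb, Eb, add_comm]
    have haw : act 10 a w = -w := by
      rw [hw, act_add ha, hax, Ec, ← Ec', hax, act_neg hb, neg_add]
    have hatw : act 10 a (act 10 t w) = -act 10 t w := by rw [← Etc, ← Ec, hbw, haw, act_neg ht]
    have hctw : act 10 c (act 10 t w) = act 10 t w := by rw [← Etb, hbw]
    have hattw : act 10 a (act 10 t (act 10 t w)) = act 10 t (act 10 t w) := by rw [← Etc, hctw]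
    have h0 := orb w hUw
    have h1' := congrArg (act 10 a) h0
    rw [act_add ha, act_add ha, haw, hatw, hattw, act_zero ha] at h1'
    have h2 : act 10 t (act 10 t w) = 0 := two _ <| by
      calc act 10 t (act 10 t w) + act 10 t (act 10 t w) = (w + act 10 t w + act 10 t (act 10 t w)) +
          (-w + -act 10 t w + act 10 t (act 10 t w)) := by abel
        _ = 0 := by rw [h0, h1', add_zero]
    exact act_inj ht (act_inj ht h2)
  have hm : x - act 10 b x = 0 := by
    set w := x - act 10 b x with hw
    have hUw : U w := by rw [hw, sub_eq_add_neg]; exact hUadd _ _ hUx (hUneg _ (hUb _ hUx))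
    have hbw : act 10 b w = -w := by rw [hw, act_sub hb, Eb, neg_sub]
    have haw : act 10 a w = -w := by
      rw [hw, act_sub ha, hax, Ec, ← Ec', hax, act_neg hb]; abel
    have hatw : act 10 a (act 10 t w) = act 10 t w := by rw [← Etc, ← Ec, hbw, act_neg ha, haw, neg_neg]
    have hctw : act 10 c (act 10 t w) = -act 10 t w := by rw [← Etb, hbw, act_neg ht]
    have hattw : act 10 a (act 10 t (act 10 t w)) = -act 10 t (act 10 t w) := by rw [← Etc, hctw, act_neg ht]
    have h0 := orb w hUw
    have h1' := congrArg (act 10 a) h0
    rw [act_add ha, act_add ha, haw, hatw, hattw, act_zero ha] at h1'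
    have h2 : act 10 t w = 0 := two _ <| by
      calc act 10 t w + act 10 t w = (w + act 10 t w + act 10 t (act 10 t w)) +
          (-w + act 10 t w + -act 10 t (act 10 t w)) := by abel
        _ = 0 := by rw [h0, h1', add_zero]
    exact act_inj ht h2
  have : x = 0 := two x <| by
    calc x + x = (x + act 10 b x) + (x - act 10 b x) := by abel
      _ = 0 := by rw [hp, hm, add_zero]
  rw [hx, sub_eq_zero] at this
  exact this.symm

/-- The subgroups used. -/
def good : List (List ℕ × List (List ℕ × List ℕ)) :=
  [([217189910100, 590341104720], [([1, 0, 1], [1, 0, 0]), ([0, 1, 0, 0, 0], [1, 0, 0, 0, 1, 0])]),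
   ([384523322145, 650777993985], [([1, 0, 1], [1, 0, 0]), ([0, 1, 0, 0, 0], [1, 0, 0, 0, 1, 0])]),
   ([654820000545, 654820254465], [([1, 0, 1], [1, 0, 0]), ([0, 1, 0, 0, 0], [1, 0, 0, 0, 1, 0])]),
   ([654720713505, 654769938720], [([0, 0, 1, 0, 0], [1, 0, 0, 0]), ([0, 0, 1, 0, 0, 0, 0], [0, 1, 0, 0, 0, 1, 0, 0])]),
   ([654820254465, 654820249650, 654820196640, 654820119600], [([1], [3, 0, 2]), ([0], [2, 0, 3]), ([3], [1, 2, 0]), ([2], [0, 2, 1])]),
   ([654804468240, 654784746000, 654567617040, 654252061200], [([1], [3, 0, 2]), ([0], [2, 0, 3]), ([3], [1, 2, 0]), ([2], [0, 2, 1])])]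

theorem good_ok : (good.all fun e => perfectOk 10 e.1 e.2) = true := by decide +kernel

variable (hP : ∀ u : V, 5 • u = 0)
  (hsol : ∀ u : V, u ≠ 0 → Group.IsSolvable (MulAction.stabilizer (alternatingGroup (Fin 10)) u))
include hP hsol

lemma good_fix {L : List ℕ} (h : (good.any fun e => e.1 == L) = true) (u : V) (hu : ∀ s ∈ L, act 10 s u = u) : u = 0 := by
  simp only [List.any_eq_true, beq_iff_eq] at h
  obtain ⟨e, he, rfl⟩ := h
  exact perfect_fix (List.all_eq_true.1 good_ok e he) hsol u hu

lemma certified (C : Cert) (hc : C.check = true) (hn : C.n = 10) (hCP : C.P = 5) (hnl : C.nl.Coprime C.P)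
    (hL : (C.Ls.all fun L => good.any fun e => e.1 == L) = true) {v : V}
    (hgens : ∀ s ∈ C.gens, act 10 s.1 v = sgn s.2 v) : v = 0 :=
  Cert.sound C hn hc (by rw [hCP]; exact hP) hnl hgens fun L hL' => good_fix hP hsol (List.all_eq_true.1 hL L hL')

lemma exists_fix1 [Nontrivial V] : ∃ x : V, x ≠ 0 ∧ act 10 654820257825 x = x := by
  by_contra hno
  push Not at hno
  have hid : isId 10 654820258320 = true := by decide +kernel
  have free : ∀ u : V, True → act 10 654820257825 u = u → u = 0 := fun u _ h => by
    by_contra hu; exact hno u hu h
  have free' : ∀ u : V, True → act 10 654820250400 u = u → u = 0 := fun u _ h => by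
    refine act_inj (n := 10) (x := 654820188420) (by decide +kernel) (free _ trivial ?_)
    rw [rel (n := 10) (a := 654820257825) (b := 654820188420) (c := 654820188420) (d := 654820250400) (by decide +kernel), h]
  have t3 : ∀ u : V, act 10 654820257825 (act 10 654820257825 (act 10 654820257825 u)) = u := fun u => by
    rw [rel (n := 10) (a := 654820257825) (b := 654820257825) (c := 654820258050) (d := 654820258320) (by decide +kernel), act_id hid,
      rel (n := 10) (a := 654820258050) (b := 654820257825) (c := 654820258320) (d := 654820258320) (by decide +kernel), act_id hid, act_id hid]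
  have t3' : ∀ u : V, act 10 654820250400 (act 10 654820250400 (act 10 654820250400 u)) = u := fun u => by
    rw [rel (n := 10) (a := 654820250400) (b := 654820250400) (c := 654820254000) (d := 654820258320) (by decide +kernel), act_id hid,
      rel (n := 10) (a := 654820254000) (b := 654820250400) (c := 654820258320) (d := 654820258320) (by decide +kernel), act_id hid, act_id hid]
  obtain ⟨v, hv⟩ := exists_ne (0 : V)
  refine hv (good_fix hP hsol (L := [654820254465, 654820249650, 654820196640, 654820119600]) (by decide +kernel) v ?_)
  simp only [List.forall_mem_cons, List.not_mem_nil, false_implies, implies_true, and_true]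
  exact ⟨four hP (fun _ => True) (fun _ _ _ _ => trivial) (fun _ _ => trivial) (b := 654820245795) (c := 654820249650)
      (fun _ _ => trivial) (fun _ _ => trivial) (fun _ _ => trivial) (by decide +kernel) t3 free trivial,
    four hP (fun _ => True) (fun _ _ _ _ => trivial) (fun _ _ => trivial) (b := 654820254465) (c := 654820245795)
      (fun _ _ => trivial) (fun _ _ => trivial) (fun _ _ => trivial) (by decide +kernel) t3 free trivial,
    four hP (fun _ => True) (fun _ _ _ _ => trivial) (fun _ _ => trivial) (b := 654820057920) (c := 654820119600)
      (fun _ _ => trivial) (fun _ _ => trivial) (fun _ _ => trivial) (by decide +kernel) t3' free' trivial,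
    four hP (fun _ => True) (fun _ _ _ _ => trivial) (fun _ _ => trivial) (b := 654820196640) (c := 654820057920)
      (fun _ _ => trivial) (fun _ _ => trivial) (fun _ _ => trivial) (by decide +kernel) t3' free' trivial⟩

lemma exists_fix2 [Nontrivial V] :
    ∃ x : V, x ≠ 0 ∧ act 10 654820257825 x = x ∧ act 10 654818230800 x = x := by
  obtain ⟨v, hv, hv1⟩ := exists_fix1 hP hsol
  by_contra hno
  push Not at hno
  have hid : isId 10 654820258320 = true := by decide +kernel
  have ht1 : valid 10 654820257825 = true := by decide +kernel
  set U : V → Prop := fun u => act 10 654820257825 u = u with hU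
  have hadd : ∀ u w, U u → U w → U (u + w) := fun u w h1 h2 => by simp only [hU] at *; rw [act_add ht1, h1, h2]
  have hneg : ∀ u, U u → U (-u) := fun u h1 => by simp only [hU] at *; rw [act_neg ht1, h1]
  have hcl : ∀ g, relOk 10 654820257825 g g 654820257825 = true → ∀ u, U u → U (act 10 g u) := fun g hg u h1 => by
    simp only [hU] at *; rw [rel hg, h1]
  have free : ∀ u : V, U u → act 10 654818230800 u = u → u = 0 := fun u h1 h => by
    by_contra hu; exact hno u hu h1 h
  have free' : ∀ u : V, U u → act 10 654787818000 u = u → u = 0 := fun u h1 h => by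
    refine act_inj (n := 10) (x := 654533947920) (by decide +kernel) (free _ (hcl _ (by decide +kernel) u h1) ?_)
    rw [rel (n := 10) (a := 654818230800) (b := 654533947920) (c := 654533947920) (d := 654787818000) (by decide +kernel), h]
  have t3 : ∀ u : V, act 10 654818230800 (act 10 654818230800 (act 10 654818230800 u)) = u := fun u => by
    rw [rel (n := 10) (a := 654818230800) (b := 654818230800) (c := 654819152400) (d := 654820258320) (by decide +kernel), act_id hid,
      rel (n := 10) (a := 654819152400) (b := 654818230800) (c := 654820258320) (d := 654820258320) (by decide +kernel), act_id hid, act_id hid]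
  have t3' : ∀ u : V, act 10 654787818000 (act 10 654787818000 (act 10 654787818000 u)) = u := fun u => by
    rw [rel (n := 10) (a := 654787818000) (b := 654787818000) (c := 654802563600) (d := 654820258320) (by decide +kernel), act_id hid,
      rel (n := 10) (a := 654802563600) (b := 654787818000) (c := 654820258320) (d := 654820258320) (by decide +kernel), act_id hid, act_id hid]
  refine hv (good_fix hP hsol (L := [654804468240, 654784746000, 654567617040, 654252061200]) (by decide +kernel) v ?_)
  simp only [List.forall_mem_cons, List.not_mem_nil, false_implies, implies_true, and_true]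
  exact ⟨four hP U hadd hneg (b := 654768955920) (c := 654784746000)
      (hcl _ (by decide +kernel)) (hcl _ (by decide +kernel)) (hcl _ (by decide +kernel)) (by decide +kernel) t3 free hv1,
    four hP U hadd hneg (b := 654804468240) (c := 654768955920)
      (hcl _ (by decide +kernel)) (hcl _ (by decide +kernel)) (hcl _ (by decide +kernel)) (by decide +kernel) t3 free hv1,
    four hP U hadd hneg (b := 653999419920) (c := 654252061200)
      (hcl _ (by decide +kernel)) (hcl _ (by decide +kernel)) (hcl _ (by decide +kernel)) (by decide +kernel) t3' free' hv1,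
    four hP U hadd hneg (b := 654567617040) (c := 653999419920)
      (hcl _ (by decide +kernel)) (hcl _ (by decide +kernel)) (hcl _ (by decide +kernel)) (by decide +kernel) t3' free' hv1⟩

/-- In exponent five some non-zero vector has a non-solvable stabiliser. -/
theorem false_of_solvable [Nontrivial V] : False := by
  have hodd : 5 % 2 = 1 := by norm_num
  have hid : isId 10 654820258320 = true := by decide +kernel
  obtain ⟨v, hv, v1, v2⟩ := exists_fix2 hP hsol
  -- the four-group on the last four points
  obtain ⟨sa, x, hx, xa, kx⟩ := eigen hP hodd (g := 590144090640) (by decide +kernel) hid (by decide +kernel) hv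
  have x1 := kx 654820257825 false (by decide +kernel) v1
    (by rw [rel (n := 10) (c := 590144090640) (d := 654820257825) (by decide +kernel), v1]; rfl)
  have x2 := kx 654818230800 false (by decide +kernel) v2
    (by rw [rel (n := 10) (c := 590144090640) (d := 654818230800) (by decide +kernel), v2]; rfl)
  obtain ⟨sb, y, hy, yb, ky⟩ := eigen hP hodd (g := 509361795600) (by decide +kernel) hid (by decide +kernel) hx
  have y1 := ky 654820257825 false (by decide +kernel) x1
    (by rw [rel (n := 10) (c := 509361795600) (d := 654820257825) (by decide +kernel), x1]; rfl)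
  have y2 := ky 654818230800 false (by decide +kernel) x2
    (by rw [rel (n := 10) (c := 509361795600) (d := 654818230800) (by decide +kernel), x2]; rfl)
  have ya := ky 590144090640 sa (by decide +kernel) xa
    (by rw [rel (n := 10) (c := 509361795600) (d := 590144090640) (by decide +kernel), xa, act_sgn (by decide +kernel)])
  have yab : act 10 444685627920 y = sgn (xor sa sb) y := by
    rw [← act_id hid y, ← rel (n := 10) (a := 590144090640) (b := 509361795600) (by decide +kernel), yb, act_sgn (by decide +kernel), ya, sgn_sgn, Bool.xor_comm, act_id hid]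
  obtain ⟨cb, z, hz, z1, z2, za, zb⟩ : ∃ (cb : Bool) (z : V), z ≠ 0 ∧ act 10 654820257825 z = z ∧
      act 10 654818230800 z = z ∧ act 10 590144090640 z = z ∧ act 10 509361795600 z = sgn cb z := by
    cases sa with
    | false => exact ⟨sb, y, hy, y1, y2, ya, yb⟩
    | true =>
      cases sb with
      | false =>
        refine ⟨true, act 10 582342685200 y, act_ne (by decide +kernel) hy, ?_, ?_, ?_, ?_⟩
        · rw [rel (n := 10) (c := 582342685200) (d := 654820257825) (by decide +kernel), y1]; rfl
        · rw [rel (n := 10) (c := 582342685200) (d := 654818230800) (by decide +kernel), y2]; rfl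
        · rw [rel (n := 10) (c := 582342685200) (d := 509361795600) (by decide +kernel), yb]; rfl
        · rw [rel (n := 10) (c := 582342685200) (d := 444685627920) (by decide +kernel), yab, act_sgn (by decide +kernel)]; rfl
      | true =>
        refine ⟨true, act 10 521944707600 y, act_ne (by decide +kernel) hy, ?_, ?_, ?_, ?_⟩
        · rw [rel (n := 10) (c := 521944707600) (d := 654820257825) (by decide +kernel), y1]; rfl
        · rw [rel (n := 10) (c := 521944707600) (d := 654818230800) (by decide +kernel), y2]; rfl
        · rw [rel (n := 10) (c := 521944707600) (d := 444685627920) (by decide +kernel), yab]; rfl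
        · rw [rel (n := 10) (c := 521944707600) (d := 590144090640) (by decide +kernel), ya, act_sgn (by decide +kernel)]
  -- the two involutions on the cycles
  obtain ⟨s1, w, hw, w5, kw⟩ := eigen hP hodd (g := 654819275040) (by decide +kernel) hid (by decide +kernel) hz
  have zi1 : act 10 654820258050 z = z := by
    conv_lhs => rw [← z1]
    rw [rel (n := 10) (c := 654820258320) (d := 654820258320) (by decide +kernel), act_id hid, act_id hid]
  have zi2 : act 10 654819152400 z = z := by
    conv_lhs => rw [← z2]
    rw [rel (n := 10) (c := 654820258320) (d := 654820258320) (by decide +kernel), act_id hid, act_id hid]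
  have w1 := kw 654820257825 false (by decide +kernel) z1
    (by rw [rel (n := 10) (c := 654819275040) (d := 654820258050) (by decide +kernel), zi1]; rfl)
  have w2 := kw 654818230800 false (by decide +kernel) z2
    (by rw [rel (n := 10) (c := 654819275040) (d := 654819152400) (by decide +kernel), zi2]; rfl)
  have wa := kw 590144090640 false (by decide +kernel) za
    (by rw [rel (n := 10) (c := 654819275040) (d := 590144090640) (by decide +kernel), za]; rfl)
  have wb := kw 509361795600 cb (by decide +kernel) zb
    (by rw [rel (n := 10) (c := 654819275040) (d := 509361795600) (by decide +kernel), zb, act_sgn (by decide +kernel)])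
  have wab : act 10 444685627920 w = sgn cb w := by
    rw [← act_id hid w, ← rel (n := 10) (a := 590144090640) (b := 509361795600) (by decide +kernel), wb, act_sgn (by decide +kernel), wa, sgn_sgn, act_id hid]
    cases cb <;> rfl
  have wi1 : act 10 654820258050 w = w := by
    calc act 10 654820258050 w = act 10 654820258050 (act 10 654820257825 w) := by rw [w1]; rfl
      _ = w := by rw [rel (n := 10) (c := 654820258320) (d := 654820258320) (by decide +kernel), act_id hid, act_id hid]
  obtain ⟨s2, r, hr, r6, kr⟩ := eigen hP hodd (g := 654568599840) (by decide +kernel) hid (by decide +kernel) hw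
  have r1 := kr 654820257825 false (by decide +kernel) w1
    (by rw [rel (n := 10) (c := 654568599840) (d := 654820258050) (by decide +kernel), wi1]; rfl)
  have r2 := kr 654818230800 false (by decide +kernel) w2
    (by rw [rel (n := 10) (c := 654568599840) (d := 654818230800) (by decide +kernel), w2]; rfl)
  have ra := kr 590144090640 false (by decide +kernel) wa
    (by rw [rel (n := 10) (c := 654568599840) (d := 590144090640) (by decide +kernel), wa]; rfl)
  have rb := kr 509361795600 cb (by decide +kernel) wb
    (by rw [rel (n := 10) (c := 654568599840) (d := 444685627920) (by decide +kernel), wab, act_sgn (by decide +kernel)])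
  have r5 := kr 654819275040 s1 (by decide +kernel) w5
    (by rw [rel (n := 10) (c := 654568599840) (d := 654819275040) (by decide +kernel), w5, act_sgn (by decide +kernel)])
  have rab : act 10 444685627920 r = sgn cb r := by
    rw [← act_id hid r, ← rel (n := 10) (a := 590144090640) (b := 509361795600) (by decide +kernel), rb, act_sgn (by decide +kernel), ra, sgn_sgn, act_id hid]
    cases cb <;> rfl
  have r56 : act 10 654567617040 r = sgn (xor s1 s2) r := by
    rw [← act_id hid r, ← rel (n := 10) (a := 654819275040) (b := 654568599840) (by decide +kernel), r6, act_sgn (by decide +kernel), r5, sgn_sgn, Bool.xor_comm, act_id hid]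
  cases s1 with
  | false =>
    obtain ⟨s3, q, hq, q7, kq⟩ := eigen hP hodd (g := 654565246275) (by decide +kernel) hid (by decide +kernel) hr
    have q1 := kq 654820257825 false (by decide +kernel) r1
      (by rw [rel (n := 10) (c := 654565246275) (d := 654818230800) (by decide +kernel), r2]; rfl)
    have q2 := kq 654818230800 false (by decide +kernel) r2
      (by rw [rel (n := 10) (c := 654565246275) (d := 654820257825) (by decide +kernel), r1]; rfl)
    have qa := kq 590144090640 false (by decide +kernel) ra
      (by rw [rel (n := 10) (c := 654565246275) (d := 590144090640) (by decide +kernel), ra]; rfl)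
    have qb := kq 509361795600 cb (by decide +kernel) rb
      (by rw [rel (n := 10) (c := 654565246275) (d := 444685627920) (by decide +kernel), rab, act_sgn (by decide +kernel)])
    have q5 := kq 654819275040 false (by decide +kernel) r5
      (by rw [rel (n := 10) (c := 654565246275) (d := 654819275040) (by decide +kernel), r5]; rfl)
    have q6 := kq 654568599840 s2 (by decide +kernel) r6
      (by rw [rel (n := 10) (c := 654565246275) (d := 654567617040) (by decide +kernel), r56, act_sgn (by decide +kernel), Bool.false_xor])
    have hg : ∀ s ∈ [(654820257825, false), (654818230800, false), (590144090640, false), (509361795600, cb),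
        (654819275040, false), (654568599840, s2), (654565246275, s3)], act 10 s.1 q = sgn s.2 q := by
      simp only [List.forall_mem_cons, List.not_mem_nil, false_implies, implies_true, and_true]
      exact ⟨q1, q2, qa, qb, q5, q6, q7⟩
    cases cb <;> cases s2 <;> cases s3
    · exact hq (certified hP hsol DataB000.cert DataB000.check rfl rfl (by decide +kernel) (by decide +kernel) hg)
    · exact hq (certified hP hsol DataB001.cert DataB001.check rfl rfl (by decide +kernel) (by decide +kernel) hg)
    · exact hq (certified hP hsol DataB010.cert DataB010.check rfl rfl (by decide +kernel) (by decide +kernel) hg)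
    · exact hq (certified hP hsol DataB011.cert DataB011.check rfl rfl (by decide +kernel) (by decide +kernel) hg)
    · exact hq (certified hP hsol DataB100.cert DataB100.check rfl rfl (by decide +kernel) (by decide +kernel) hg)
    · exact hq (certified hP hsol DataB101.cert DataB101.check rfl rfl (by decide +kernel) (by decide +kernel) hg)
    · exact hq (certified hP hsol DataB110.cert DataB110.check rfl rfl (by decide +kernel) (by decide +kernel) hg)
    · exact hq (certified hP hsol DataB111.cert DataB111.check rfl rfl (by decide +kernel) (by decide +kernel) hg)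
  | true =>
    obtain ⟨q, hq, q1, q2, qa, qb, q5, q6⟩ : ∃ q : V, q ≠ 0 ∧ act 10 654820257825 q = q ∧ act 10 654818230800 q = q ∧
        act 10 590144090640 q = q ∧ act 10 509361795600 q = sgn cb q ∧ act 10 654819275040 q = sgn true q ∧
        act 10 654568599840 q = sgn false q := by
      cases s2 with
      | false => exact ⟨r, hr, r1, r2, ra, rb, r5, r6⟩
      | true =>
        refine ⟨act 10 654565246275 r, act_ne (by decide +kernel) hr, ?_, ?_, ?_, ?_, ?_, ?_⟩
        · rw [rel (n := 10) (c := 654565246275) (d := 654818230800) (by decide +kernel), r2]; rfl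
        · rw [rel (n := 10) (c := 654565246275) (d := 654820257825) (by decide +kernel), r1]; rfl
        · rw [rel (n := 10) (c := 654565246275) (d := 590144090640) (by decide +kernel), ra]; rfl
        · rw [rel (n := 10) (c := 654565246275) (d := 444685627920) (by decide +kernel), rab, act_sgn (by decide +kernel)]
        · rw [rel (n := 10) (c := 654565246275) (d := 654819275040) (by decide +kernel), r5, act_sgn (by decide +kernel)]
        · rw [rel (n := 10) (c := 654565246275) (d := 654567617040) (by decide +kernel), r56]; rfl
    have hg : ∀ s ∈ [(654820257825, false), (654818230800, false), (590144090640, false), (509361795600, cb),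
        (654819275040, true), (654568599840, false)], act 10 s.1 q = sgn s.2 q := by
      simp only [List.forall_mem_cons, List.not_mem_nil, false_implies, implies_true, and_true]
      exact ⟨q1, q2, qa, qb, q5, q6⟩
    cases cb
    · exact hq (certified hP hsol DataA0.cert DataA0.check rfl rfl (by decide +kernel) (by decide +kernel) hg)
    · exact hq (certified hP hsol DataA1.cert DataA1.check rfl rfl (by decide +kernel) (by decide +kernel) hg)

end CfsgLib.SolvCent.Mod10
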