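/-
In characteristic two no non-trivial module for A₉ has all stabilisers of non-zero vectors solvable.
-/
import Cfsg.Agent.Lib.SolvCent.Perfect
import Cfsg.Agent.Lib.SolvCent.Data.N1
import Cfsg.Agent.Lib.SolvCent.Data.N2
import Cfsg.Agent.Lib.SolvCent.Data.N3
set_option autoImplicit false
set_option linter.style.longLine false
set_option linter.unusedSectionVars false

namespace CfsgLib.SolvCent.Mod9

variable {V : Type*} [AddCommGroup V] [DistribMulAction (alternatingGroup (Fin 9)) V]

/-- The subgroups used. -/
def good : List (List ℕ × List (List ℕ × List ℕ)) :=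
  [([36344709921, 36344963841], [([1, 0, 1], [1, 0, 0]), ([0, 1, 0, 0, 0], [1, 0, 0, 0, 1, 0])]),
   ([36344709921, 36339528261], [([1, 0, 1], [1, 0, 0]), ([0, 1, 0, 0, 0], [1, 0, 0, 0, 1, 0])]),
   ([36245422881, 36294648096], [([0, 0, 1, 0, 0], [1, 0, 0, 0]), ([0, 0, 1, 0, 0, 0, 0], [0, 1, 0, 0, 0, 1, 0, 0])]),
   ([36245422881, 34381046631], [([0, 0, 1, 0, 0], [1, 0, 0, 0]), ([0, 0, 1, 0, 0, 0, 0], [0, 1, 0, 0, 0, 1, 0, 0])]),
   ([36092322561, 35820626976, 1126655256], [([1, 0], [1, 1]), ([2], [1, 1, 1]), ([0, 1, 0], [0, 1, 1, 0, 2])]),
   ([27787600641, 23489373216, 17232848151], [([1, 0], [1, 1]), ([2], [1, 1, 1]), ([0, 1, 0], [0, 1, 1, 0, 2])]),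
   ([36344709921, 36342940176], [([1, 0, 0], [0, 1]), ([0, 1, 0], [0, 1, 0, 1, 1])])]

theorem good_ok : (good.all fun e => perfectOk 9 e.1 e.2) = true := by decide +kernel

variable (hP : ∀ u : V, 2 • u = 0)
  (hsol : ∀ u : V, u ≠ 0 → Group.IsSolvable (MulAction.stabilizer (alternatingGroup (Fin 9)) u))
include hP hsol

lemma certified (C : Cert) (hc : C.check = true) (hn : C.n = 9) (hCP : C.P = 2) (hnl : C.nl.Coprime C.P)
    (hL : (C.Ls.all fun L => good.any fun e => e.1 == L) = true) {v : V}
    (hgens : ∀ s ∈ C.gens, act 9 s.1 v = sgn s.2 v) : v = 0 := by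
  refine Cert.sound C hn hc (by rw [hCP]; exact hP) hnl hgens fun L hL' u hu => ?_
  have h := List.all_eq_true.1 hL L hL'
  simp only [List.any_eq_true, beq_iff_eq] at h
  obtain ⟨e, he, rfl⟩ := h
  exact perfect_fix (List.all_eq_true.1 good_ok e he) hsol u hu

/-- In exponent two some non-zero vector has a non-solvable stabiliser. -/
theorem false_of_solvable [Nontrivial V] : False := by
  have hid : isId 9 36344967696 = true := by decide +kernel
  obtain ⟨v, hv⟩ := exists_ne (0 : V)
  -- a vector fixed by the sixteen group
  obtain ⟨a, ha, a0, -⟩ := eigen2 hP (g := 36344963841) (by decide +kernel) hid (by decide +kernel) hv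
  obtain ⟨b, hb, b1, kb⟩ := eigen2 hP (g := 36344959026) (by decide +kernel) hid (by decide +kernel) ha
  have b0 := kb 36344963841 (by decide +kernel) a0 (by rw [rel (n := 9) (c := 36344959026) (d := 36344963841) (by decide +kernel), a0])
  obtain ⟨c, hc, c2, kc⟩ := eigen2 hP (g := 36092326416) (by decide +kernel) hid (by decide +kernel) hb
  have c0 := kc 36344963841 (by decide +kernel) b0 (by rw [rel (n := 9) (c := 36092326416) (d := 36344963841) (by decide +kernel), b0])
  have c1 := kc 36344959026 (by decide +kernel) b1 (by rw [rel (n := 9) (c := 36092326416) (d := 36344959026) (by decide +kernel), b1])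
  obtain ⟨d, hd, d3, kd⟩ := eigen2 hP (g := 35776770576) (by decide +kernel) hid (by decide +kernel) hc
  have d0 := kd 36344963841 (by decide +kernel) c0 (by rw [rel (n := 9) (c := 35776770576) (d := 36344963841) (by decide +kernel), c0])
  have d1 := kd 36344959026 (by decide +kernel) c1 (by rw [rel (n := 9) (c := 35776770576) (d := 36344959026) (by decide +kernel), c1])
  have d2 := kd 36092326416 (by decide +kernel) c2 (by rw [rel (n := 9) (c := 35776770576) (d := 36092326416) (by decide +kernel), c2])
  set X : V → Prop := fun u => act 9 36344963841 u = u ∧ act 9 36344959026 u = u ∧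
    act 9 36092326416 u = u ∧ act 9 35776770576 u = u with hX
  have X01 : ∀ u, X u → act 9 36344955171 u = u := fun u ⟨h0, h1, _⟩ => by
    rw [← act_id hid u, ← rel (n := 9) (a := 36344963841) (b := 36344959026) (by decide +kernel), h1, h0, act_id hid]
  have X23 : ∀ u, X u → act 9 35524129296 u = u := fun u ⟨_, _, h2, h3⟩ => by
    rw [← act_id hid u, ← rel (n := 9) (a := 36092326416) (b := 35776770576) (by decide +kernel), h3, h2, act_id hid]
  have Xd : X d := ⟨d0, d1, d2, d3⟩
  by_cases hfix : ∃ u, u ≠ 0 ∧ X u ∧ act 9 36344959776 u = u
  · obtain ⟨u, hu, ⟨u0, u1, u2, u3⟩, ut⟩ := hfix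
    have ui : act 9 36344963376 u = u := by
      conv_lhs => rw [← ut]
      rw [rel (n := 9) (c := 36344967696) (d := 36344967696) (by decide +kernel), act_id hid, act_id hid]
    obtain ⟨w, hw, wj, kw⟩ := eigen2 hP (g := 36329238816) (by decide +kernel) hid (by decide +kernel) hu
    have w0 := kw 36344963841 (by decide +kernel) u0 (by rw [rel (n := 9) (c := 36329238816) (d := 36344959026) (by decide +kernel), u1])
    have w1 := kw 36344959026 (by decide +kernel) u1 (by rw [rel (n := 9) (c := 36329238816) (d := 36344963841) (by decide +kernel), u0])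
    have w2 := kw 36092326416 (by decide +kernel) u2 (by rw [rel (n := 9) (c := 36329238816) (d := 35776770576) (by decide +kernel), u3])
    have w3 := kw 35776770576 (by decide +kernel) u3 (by rw [rel (n := 9) (c := 36329238816) (d := 36092326416) (by decide +kernel), u2])
    have wt := kw 36344959776 (by decide +kernel) ut (by rw [rel (n := 9) (c := 36329238816) (d := 36344963376) (by decide +kernel), ui])
    refine hw (certified hP hsol DataN1.cert DataN1.check rfl rfl (by decide +kernel) (by decide +kernel) ?_)
    show ∀ s ∈ [(36344963841, false), (36344959026, false), (36092326416, false), (35776770576, false),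
      (36344959776, false), (36329238816, false)], act 9 s.1 w = sgn s.2 w
    simp only [List.forall_mem_cons, List.not_mem_nil, false_implies, implies_true, and_true]
    exact ⟨w0, w1, w2, w3, wt, wj⟩
  push Not at hfix
  have free1 : ∀ u, X u → act 9 36344959776 u = u → u = 0 := fun u hu h => by
    by_contra hne; exact hfix u hne hu h
  have free2 : ∀ u, X u → act 9 35825922576 u = u → u = 0 := fun u ⟨h0, h1, h2, h3⟩ h => by
    refine act_inj (n := 9) (x := 35199678036) (by decide +kernel) (free1 _ ⟨?_, ?_, ?_, ?_⟩ ?_)
    · rw [rel (n := 9) (c := 35199678036) (d := 36092326416) (by decide +kernel), h2]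
    · rw [rel (n := 9) (c := 35199678036) (d := 35776770576) (by decide +kernel), h3]
    · rw [rel (n := 9) (c := 35199678036) (d := 36344963841) (by decide +kernel), h0]
    · rw [rel (n := 9) (c := 35199678036) (d := 36344959026) (by decide +kernel), h1]
    · rw [rel (n := 9) (c := 35199678036) (d := 35825922576) (by decide +kernel), h]
  have Xt1 : ∀ u, X u → X (act 9 36344959776 u) := fun u hu => by
    obtain ⟨h0, h1, h2, h3⟩ := id hu
    refine ⟨?_, ?_, ?_, ?_⟩
    · rw [rel (n := 9) (c := 36344959776) (d := 36344955171) (by decide +kernel), X01 u hu]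
    · rw [rel (n := 9) (c := 36344959776) (d := 36344963841) (by decide +kernel), h0]
    · rw [rel (n := 9) (c := 36344959776) (d := 36092326416) (by decide +kernel), h2]
    · rw [rel (n := 9) (c := 36344959776) (d := 35776770576) (by decide +kernel), h3]
  have Xt2 : ∀ u, X u → X (act 9 35825922576 u) := fun u hu => by
    obtain ⟨h0, h1, h2, h3⟩ := id hu
    refine ⟨?_, ?_, ?_, ?_⟩
    · rw [rel (n := 9) (c := 35825922576) (d := 36344963841) (by decide +kernel), h0]
    · rw [rel (n := 9) (c := 35825922576) (d := 36344959026) (by decide +kernel), h1]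
    · rw [rel (n := 9) (c := 35825922576) (d := 35524129296) (by decide +kernel), X23 u hu]
    · rw [rel (n := 9) (c := 35825922576) (d := 36092326416) (by decide +kernel), h2]
  have Xadd : ∀ u w, X u → X w → X (u + w) := fun u w ⟨a, b, c, e⟩ ⟨a', b', c', e'⟩ =>
    ⟨by rw [act_add (by decide +kernel), a, a'], by rw [act_add (by decide +kernel), b, b'],
      by rw [act_add (by decide +kernel), c, c'], by rw [act_add (by decide +kernel), e, e']⟩
  have quad : ∀ t ti, relOk 9 t t ti 36344967696 = true → relOk 9 ti t 36344967696 36344967696 = true →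
      valid 9 t = true → (∀ u, X u → X (act 9 t u)) → (∀ u, X u → act 9 t u = u → u = 0) →
      ∀ u, X u → act 9 t (act 9 t u) = u + act 9 t u := by
    intro t ti h1 h2 ht hcl hfree u hu
    have t3 : act 9 t (act 9 t (act 9 t u)) = u := by rw [rel h1, act_id hid, rel h2, act_id hid, act_id hid]
    have h0 := hfree _ (Xadd _ _ (Xadd _ _ hu (hcl _ hu)) (hcl _ (hcl _ hu))) (by rw [act_add ht, act_add ht, t3]; abel)
    rw [← self_neg hP (u + act 9 t u), eq_comm, neg_eq_iff_add_eq_zero, h0]
  have q1 := quad 36344959776 36344963376 (by decide +kernel) (by decide +kernel) (by decide +kernel) Xt1 free1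
  have q2 := quad 35825922576 36061852176 (by decide +kernel) (by decide +kernel) (by decide +kernel) Xt2 free2
  have hv1 : valid 9 36344959776 = true := by decide +kernel
  have hv2 : valid 9 35825922576 = true := by decide +kernel
  by_cases hy : act 9 36344959776 d + act 9 35825922576 d = 0
  · -- fixed by the twisted diagonal element
    have e : act 9 36344959776 d = act 9 35825922576 d := by
      rw [add_eq_zero_iff_eq_neg.1 hy, self_neg hP]
    have hM : act 9 36061844256 d = d := by
      rw [← act_id hid d, ← rel (n := 9) (a := 36061852176) (b := 36344959776) (by decide +kernel), e,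
        rel (n := 9) (c := 36344967696) (d := 36344967696) (by decide +kernel), act_id hid]
    have hMi : act 9 35825918256 d = d := by
      conv_lhs => rw [← hM]
      rw [rel (n := 9) (c := 36344967696) (d := 36344967696) (by decide +kernel), act_id hid, act_id hid]
    obtain ⟨w, hw, wj, kw⟩ := eigen2 hP (g := 35810193696) (by decide +kernel) hid (by decide +kernel) hd
    have w0 := kw 36344963841 (by decide +kernel) d0 (by rw [rel (n := 9) (c := 35810193696) (d := 36344959026) (by decide +kernel), d1])
    have w1 := kw 36344959026 (by decide +kernel) d1 (by rw [rel (n := 9) (c := 35810193696) (d := 36344963841) (by decide +kernel), d0])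
    have w2 := kw 36092326416 (by decide +kernel) d2 (by rw [rel (n := 9) (c := 35810193696) (d := 35524129296) (by decide +kernel), X23 d Xd])
    have w3 := kw 35776770576 (by decide +kernel) d3 (by rw [rel (n := 9) (c := 35810193696) (d := 35776770576) (by decide +kernel), d3])
    have wm := kw 36061844256 (by decide +kernel) hM (by rw [rel (n := 9) (c := 35810193696) (d := 35825918256) (by decide +kernel), hMi])
    obtain ⟨z, hz, zs, kz⟩ := eigen2 hP (g := 34948015956) (by decide +kernel) hid (by decide +kernel) hw
    have Xw : X w := ⟨w0, w1, w2, w3⟩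
    have z0 := kz 36344963841 (by decide +kernel) w0 (by rw [rel (n := 9) (c := 34948015956) (d := 36092326416) (by decide +kernel), w2])
    have z1 := kz 36344959026 (by decide +kernel) w1 (by rw [rel (n := 9) (c := 34948015956) (d := 35524129296) (by decide +kernel), X23 w Xw])
    have z2 := kz 36092326416 (by decide +kernel) w2 (by rw [rel (n := 9) (c := 34948015956) (d := 36344963841) (by decide +kernel), w0])
    have z3 := kz 35776770576 (by decide +kernel) w3 (by rw [rel (n := 9) (c := 34948015956) (d := 36344955171) (by decide +kernel), X01 w Xw])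
    have zm := kz 36061844256 (by decide +kernel) wm (by rw [rel (n := 9) (c := 34948015956) (d := 36061844256) (by decide +kernel), wm])
    have zj := kz 35810193696 (by decide +kernel) wj (by rw [rel (n := 9) (c := 34948015956) (d := 35810193696) (by decide +kernel), wj])
    refine hz (certified hP hsol DataN3.cert DataN3.check rfl rfl (by decide +kernel) (by decide +kernel) ?_)
    show ∀ s ∈ [(36344963841, false), (36344959026, false), (36092326416, false), (35776770576, false),
      (36061844256, false), (35810193696, false), (34948015956, false)], act 9 s.1 z = sgn s.2 z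
    simp only [List.forall_mem_cons, List.not_mem_nil, false_implies, implies_true, and_true]
    exact ⟨z0, z1, z2, z3, zm, zj, zs⟩
  · -- fixed by the diagonal element
    set y := act 9 36344959776 d + act 9 35825922576 d with hydef
    obtain ⟨y0, y1, y2, y3⟩ := Xadd _ _ (Xt1 d Xd) (Xt2 d Xd)
    have hcomm : ∀ u : V, act 9 36344959776 (act 9 35825922576 u) = act 9 35825922576 (act 9 36344959776 u) :=
      rel (by decide +kernel)
    have hPy : act 9 35825914656 y = y := by
      rw [← act_id hid y, ← rel (n := 9) (a := 36344959776) (b := 35825922576) (by decide +kernel), hydef, act_id hid,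
        act_add hv2, q2 d Xd, ← hcomm, act_add hv1, act_add hv1, q1 _ (Xt2 d Xd)]
      have := hP (act 9 36344959776 (act 9 35825922576 d))
      rw [two_smul] at this
      calc _ = act 9 36344959776 d + act 9 35825922576 d +
            (act 9 36344959776 (act 9 35825922576 d) + act 9 36344959776 (act 9 35825922576 d)) := by abel
        _ = _ := by rw [this, add_zero]
    have hPi : act 9 36061847856 y = y := by
      conv_lhs => rw [← hPy]
      rw [rel (n := 9) (c := 36344967696) (d := 36344967696) (by decide +kernel), act_id hid, act_id hid]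
    obtain ⟨w, hw, wj, kw⟩ := eigen2 hP (g := 36329238816) (by decide +kernel) hid (by decide +kernel) hy
    have w0 := kw 36344963841 (by decide +kernel) y0 (by rw [rel (n := 9) (c := 36329238816) (d := 36344959026) (by decide +kernel), y1])
    have w1 := kw 36344959026 (by decide +kernel) y1 (by rw [rel (n := 9) (c := 36329238816) (d := 36344963841) (by decide +kernel), y0])
    have w2 := kw 36092326416 (by decide +kernel) y2 (by rw [rel (n := 9) (c := 36329238816) (d := 35776770576) (by decide +kernel), y3])
    have w3 := kw 35776770576 (by decide +kernel) y3 (by rw [rel (n := 9) (c := 36329238816) (d := 36092326416) (by decide +kernel), y2])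
    have wp := kw 35825914656 (by decide +kernel) hPy (by rw [rel (n := 9) (c := 36329238816) (d := 36061847856) (by decide +kernel), hPi])
    obtain ⟨z, hz, zs, kz⟩ := eigen2 hP (g := 35199678036) (by decide +kernel) hid (by decide +kernel) hw
    have z0 := kz 36344963841 (by decide +kernel) w0 (by rw [rel (n := 9) (c := 35199678036) (d := 36092326416) (by decide +kernel), w2])
    have z1 := kz 36344959026 (by decide +kernel) w1 (by rw [rel (n := 9) (c := 35199678036) (d := 35776770576) (by decide +kernel), w3])
    have z2 := kz 36092326416 (by decide +kernel) w2 (by rw [rel (n := 9) (c := 35199678036) (d := 36344963841) (by decide +kernel), w0])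
    have z3 := kz 35776770576 (by decide +kernel) w3 (by rw [rel (n := 9) (c := 35199678036) (d := 36344959026) (by decide +kernel), w1])
    have zp := kz 35825914656 (by decide +kernel) wp (by rw [rel (n := 9) (c := 35199678036) (d := 35825914656) (by decide +kernel), wp])
    have zj := kz 36329238816 (by decide +kernel) wj (by rw [rel (n := 9) (c := 35199678036) (d := 36329238816) (by decide +kernel), wj])
    refine hz (certified hP hsol DataN2.cert DataN2.check rfl rfl (by decide +kernel) (by decide +kernel) ?_)
    show ∀ s ∈ [(36344963841, false), (36344959026, false), (36092326416, false), (35776770576, false),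
      (35825914656, false), (36329238816, false), (35199678036, false)], act 9 s.1 z = sgn s.2 z
    simp only [List.forall_mem_cons, List.not_mem_nil, false_implies, implies_true, and_true]
    exact ⟨z0, z1, z2, z3, zp, zj, zs⟩

end CfsgLib.SolvCent.Mod9
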