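/-
The degrees of alternating sections in groups with solvable p-element centralisers.
-/
import Cfsg.Agent.Lib.SolvCent.Cover
import Cfsg.Agent.Lib.SolvCent.Mod9
import Cfsg.Agent.Lib.SolvCent.Mod10
import Cfsg.Prelude.Def_LocalEven
set_option autoImplicit false
set_option linter.unusedSectionVars false

namespace CfsgLib.SolvCent

open Subgroup Equiv

universe u

variable (m : ℕ)

/-- Permutations of two blocks as permutations of the sum. -/
def blocks : Perm (Fin 5) × Perm (Fin m) →* Perm (Fin (5 + m)) :=
  (finSumFinEquiv.permCongrHom.toMonoidHom).comp (Perm.sumCongrHom (Fin 5) (Fin m))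

lemma sign_blocks (s : Perm (Fin 5)) (t : Perm (Fin m)) :
    Perm.sign (blocks m (s, t)) = Perm.sign s * Perm.sign t :=
  (Perm.sign_permCongr _ _).trans (Perm.sign_sumCongr s t)

lemma blocks_injective : Function.Injective (blocks m) :=
  finSumFinEquiv.permCongrHom.injective.comp Perm.sumCongrHom_injective

/-- The alternating group on the first five points. -/
def f5 : alternatingGroup (Fin 5) →* alternatingGroup (Fin (5 + m)) :=
  MonoidHom.codRestrict ((blocks m).comp ((MonoidHom.inl _ _).comp (alternatingGroup (Fin 5)).subtype)) _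
    fun σ => by
      show Perm.sign (blocks m (σ.1, 1)) = 1
      rw [sign_blocks, Perm.mem_alternatingGroup.1 σ.2, map_one, mul_one]

lemma f5_injective : Function.Injective (f5 m) := fun a b e =>
  Subtype.ext (Prod.ext_iff.1 (blocks_injective m (congrArg Subtype.val e))).1

variable {p : ℕ} [hp : Fact p.Prime]

/-- An even permutation of order p away from the first five points excludes covers. -/
lemma no_cover_of {t : Perm (Fin m)} (ht : Perm.sign t = 1) (ht1 : t ≠ 1) (htp : t ^ p = 1)
    (hcase : Nat.Coprime p 60 ∨ ∀ (V : Type u) [AddCommGroup V]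
      [DistribMulAction (alternatingGroup (Fin (5 + m))) V] [Nontrivial V], (∀ v : V, p • v = 0) →
      (∀ v : V, v ≠ 0 → Group.IsSolvable (MulAction.stabilizer (alternatingGroup (Fin (5 + m))) v)) → False)
    (H : Type u) [Group H] [Finite H] (h : Hyp p H) (π : H →* alternatingGroup (Fin (5 + m)))
    (hπ : Function.Surjective π) : False := by
  let a : alternatingGroup (Fin (5 + m)) := ⟨blocks m (1, t),
    show Perm.sign (blocks m (1, t)) = 1 by rw [sign_blocks, ht, map_one, mul_one]⟩
  have ha1 : a ≠ 1 := fun e => ht1 (Prod.ext_iff.1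
    (blocks_injective m ((congrArg Subtype.val e).trans (map_one (blocks m)).symm))).2
  have hap : a ^ p = 1 := Subtype.ext <| by
    show blocks m (1, t) ^ p = 1
    rw [← map_pow, Prod.pow_mk, one_pow, htp, Prod.mk_one_one, map_one]
  have hcomm : ∀ σ, f5 m σ * a = a * f5 m σ := fun σ => Subtype.ext <| by
    show blocks m (σ.1, 1) * blocks m (1, t) = blocks m (1, t) * blocks m (σ.1, 1)
    rw [← map_mul, ← map_mul, Prod.mk_mul_mk, Prod.mk_mul_mk, mul_one, one_mul, mul_one, one_mul]
  refine no_cover (fun H _ _ h π hπ hker => ?_) H h π hπ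
  rcases hcase with hc | hc
  · exact false_of_coprime π (f5 m) (f5_injective m) (by omega) ha1 hap hcomm hc h hπ hker
  · exact false_of_not_central hc h π hπ hker
      (ker_not_central π (f5 m) (f5_injective m) (by omega) ha1 hap hcomm h hπ hker)

/-- The even permutations of a subset extend. -/
noncomputable def extend {N d : ℕ} (hNd : N ≤ d) : alternatingGroup (Fin N) →* alternatingGroup (Fin d) :=
  MonoidHom.codRestrict
    ((Perm.extendDomainHom (Fin.castLEquiv hNd)).comp (alternatingGroup (Fin N)).subtype) _
    fun σ => by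
      show Perm.sign (σ.1.extendDomain (Fin.castLEquiv hNd)) = 1
      rw [Perm.sign_extendDomain]; exact σ.2

lemma extend_injective {N d : ℕ} (hNd : N ≤ d) : Function.Injective (extend hNd) := fun a b e =>
  Subtype.ext (Perm.extendDomainHom_injective _ (congrArg Subtype.val e))

/-- An involved alternating group of degree at least N gives a cover of degree N. -/
lemma exists_cover {G : Type u} [Group G] [Finite G] (h : Hyp p G) {d N : ℕ} (hNd : N ≤ d)
    (hinv : Cfsg.Involves (alternatingGroup (Fin d)) G) :
    ∃ (H : Subgroup G) (π : H →* alternatingGroup (Fin N)), Hyp p H ∧ Function.Surjective π := by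
  obtain ⟨K, R, hn, ⟨e⟩⟩ := hinv
  set φ : K →* alternatingGroup (Fin d) := e.toMonoidHom.comp (QuotientGroup.mk' (R.subgroupOf K)) with hφ
  have hφs : Function.Surjective φ := e.surjective.comp (QuotientGroup.mk'_surjective _)
  set M : Subgroup K := (extend hNd).range.comap φ with hM
  let ι := MonoidHom.ofInjective (extend_injective hNd)
  let π₀ : M →* alternatingGroup (Fin N) :=
    ι.symm.toMonoidHom.comp ((φ.comp M.subtype).codRestrict _ fun x => x.2)
  have hπ₀ : Function.Surjective π₀ := fun g => by
    obtain ⟨x, hx⟩ := hφs (extend hNd g)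
    refine ⟨⟨x, by rw [hM, mem_comap, hx]; exact ⟨g, rfl⟩⟩, ι.injective (Subtype.ext ?_)⟩
    show ((ι (ι.symm _) : (extend hNd).range) : alternatingGroup (Fin d)) = _
    rw [MulEquiv.apply_symm_apply]
    exact hx
  refine ⟨M.map K.subtype, π₀.comp (M.equivMapOfInjective K.subtype K.subtype_injective).symm.toMonoidHom,
    h.subgroup _, hπ₀.comp (MulEquiv.surjective _)⟩

end CfsgLib.SolvCent
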